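import Mathlib
import Cfsg.Agent.Lib.Forms.DicksonCount
import Cfsg.Agent.Lib.Forms.DicksonAction

/-!
# Small groups with an inverted element of order at least three
-/

set_option autoImplicit false
set_option linter.unusedSectionVars false

namespace Cfsg.Agent.Forms.Max.SU3.Orth.Abstract

set_option maxRecDepth 100000

open scoped MatrixGroups

/-- rotation-like shape -/
def Flat (G : Type*) [Group G] : Prop :=
  IsCyclic G ∨ ∃ m : ℕ, Nonempty (G ≃* DihedralGroup m)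

/-- the exceptional shapes -/
def Exc (G : Type*) [Group G] : Prop :=
  Nonempty (G ≃* alternatingGroup (Fin 4)) ∨ Nonempty (G ≃* Equiv.Perm (Fin 4)) ∨
    Nonempty (G ≃* alternatingGroup (Fin 5))

theorem shape {F : Type*} [Field F] [Fintype F] (p : ℕ) [Fact p.Prime] [CharP F p]
    (X : Subgroup (Matrix.ProjectiveSpecialLinearGroup (Fin 2) F)) (hX : ∀ g : X, orderOf g ≠ p) :
    Flat X ∨ Exc X := by
  rcases DicksonCount.classify_coprime ((DicksonAction.twoPt (F := F) p).subgroup X) hX with h | ⟨c, -, h⟩ | h | h | h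
  · exact Or.inl (Or.inl h)
  · exact Or.inl (Or.inr ⟨_, h⟩)
  · exact Or.inr (Or.inl h)
  · exact Or.inr (Or.inr (Or.inl h))
  · exact Or.inr (Or.inr (Or.inr h))

theorem flat_conj {G : Type*} [Group G] (h : Flat G) {t : G} (ht : t * t ≠ 1) (x : G) :
    x * t * x⁻¹ = t ∨ x * t * x⁻¹ = t⁻¹ := by
  rcases h with h | ⟨m, ⟨e⟩⟩
  · obtain ⟨c, hc⟩ := h.exists_generator
    obtain ⟨a, rfl⟩ := Subgroup.mem_zpowers_iff.1 (hc x)
    obtain ⟨b, rfl⟩ := Subgroup.mem_zpowers_iff.1 (hc t)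
    left
    group
  · have key : ∀ y z : DihedralGroup m, y * y ≠ 1 → z * y * z⁻¹ = y ∨ z * y * z⁻¹ = y⁻¹ := by
      rintro (j | j) z hy
      · rcases z with k | k
        · left; simp
        · right; simp
      · exact absurd (by simp) hy
    rcases key (e t) (e x) (fun h => ht (e.injective (by rw [map_mul, h, map_one]))) with h | h
    · exact Or.inl (e.injective (by rw [map_mul, map_mul, map_inv, h]))
    · exact Or.inr (e.injective (by rw [map_mul, map_mul, map_inv, h, map_inv]))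

theorem four_no : ∀ σ τ : alternatingGroup (Fin 4), σ * σ ≠ 1 → τ * σ * τ⁻¹ ≠ σ⁻¹ := by decide

theorem perm_comm_three : ∀ σ : Equiv.Perm (Fin 4), σ * σ ≠ 1 →
    σ ^ 3 = 1 ∨ ∃ a, σ * a * σ⁻¹ * a⁻¹ ≠ 1 ∧ (σ * a * σ⁻¹ * a⁻¹) ^ 3 = 1 := by decide

theorem perm_three_conj : ∀ g τ : Equiv.Perm (Fin 4), g ^ 3 = 1 → τ ^ 3 = 1 → g ≠ 1 → τ ≠ 1 →
    ∃ a, a * τ * a⁻¹ = g ∨ a * τ * a⁻¹ = g⁻¹ := by decide

theorem perm_even : ∀ g : Equiv.Perm (Fin 4), Equiv.Perm.sign g = 1 → g * g = 1 ∨ g ^ 3 = 1 := by decide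

theorem perm_centraliser : ∀ g : Equiv.Perm (Fin 4), Equiv.Perm.sign g ≠ 1 →
    (Finset.univ.filter fun a => g * a = a * g).card < 8 := by decide

theorem perm_three_count : (Finset.univ.filter fun g : Equiv.Perm (Fin 4) => g ^ 3 = 1).card = 9 := by decide

theorem normal_eq (Y : Subgroup (Equiv.Perm (Fin 4))) (hn : Y.Normal) {σ τ : Equiv.Perm (Fin 4)} (hσ : σ ∈ Y)
    (hσ2 : σ * σ ≠ 1) (hτ : τ ∉ Y) : Y = alternatingGroup (Fin 4) := by
  classical
  obtain ⟨ρ, hρY, hρ1, hρ3⟩ : ∃ ρ ∈ Y, ρ ≠ 1 ∧ ρ ^ 3 = 1 := by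
    rcases perm_comm_three σ hσ2 with h | ⟨a, h1, h2⟩
    · exact ⟨σ, hσ, fun h' => hσ2 (by rw [h', one_mul]), h⟩
    · refine ⟨_, ?_, h1, h2⟩
      rw [mul_assoc σ a, mul_assoc]
      exact Y.mul_mem hσ (hn.conj_mem _ (Y.inv_mem hσ) a)
  have hall : ∀ g : Equiv.Perm (Fin 4), g ^ 3 = 1 → g ∈ Y := by
    intro g hg
    by_cases h1 : g = 1
    · exact h1 ▸ Y.one_mem
    obtain ⟨a, h | h⟩ := perm_three_conj g ρ hg hρ3 h1 hρ1
    · exact h ▸ hn.conj_mem _ hρY a
    · exact inv_mem_iff.1 (h ▸ hn.conj_mem _ hρY a)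
  have hcard : 9 ≤ Nat.card Y := by
    rw [← perm_three_count, Nat.card_eq_fintype_card, Fintype.card_subtype]
    exact Finset.card_le_card fun g hg => by
      rw [Finset.mem_filter] at hg ⊢
      exact ⟨hg.1, hall g hg.2⟩
  have h24 : Nat.card (Equiv.Perm (Fin 4)) = 24 := by
    rw [Nat.card_eq_fintype_card, Fintype.card_perm, Fintype.card_fin]; rfl
  have hmul := Y.card_mul_index
  rw [h24] at hmul
  have h1 : Y.index ≠ 1 := fun h => hτ (Subgroup.index_eq_one.1 h ▸ Subgroup.mem_top _)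
  have h0 : Y.index ≠ 0 := fun h => by rw [h, mul_zero] at hmul; omega
  refine Equiv.Perm.eq_alternatingGroup_of_index_eq_two ?_
  by_contra h2
  have h3 : 3 ≤ Y.index := by omega
  have : 9 * 3 ≤ Nat.card Y * Y.index := Nat.mul_le_mul hcard h3
  omega

/-- the exceptional case -/
theorem exceptional {G : Type*} [Group G] [Finite G] (hG : Exc G) (Y : Subgroup G) (hn : Y.Normal) {t w : G}
    (htY : t ∈ Y) (ht : t * t ≠ 1) (hw : w ∉ Y) (hinv : w * t * w⁻¹ = t⁻¹) :
    t ^ 3 = 1 ∧ (∀ y ∈ Y, y * y = 1 ∨ y ^ 3 = 1) ∧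
      ∀ (S : Sylow 2 G) (z : G), (∀ s ∈ (S : Subgroup G), z * s = s * z) → z ∈ Y := by
  classical
  rcases hG with ⟨⟨e⟩⟩ | ⟨⟨e⟩⟩ | ⟨⟨e⟩⟩
  · exfalso
    exact four_no (e t) (e w) (fun h => ht (e.injective (by rw [map_mul, h, map_one])))
      (by rw [← map_inv, ← map_inv, ← hinv, map_mul, map_mul])
  · have hmap : (Y.map e.toMonoidHom) = alternatingGroup (Fin 4) :=
      normal_eq _ (hn.map _ e.surjective) (σ := e t) (τ := e w) ⟨t, htY, rfl⟩
        (fun h => ht (e.injective (by rw [map_mul, h, map_one]))) (by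
          rintro ⟨y, hy, hye⟩
          exact hw ((e.injective hye) ▸ hy))
    have hev : ∀ y ∈ Y, Equiv.Perm.sign (e y) = 1 := fun y hy =>
      Equiv.Perm.mem_alternatingGroup.1 (hmap ▸ ⟨y, hy, rfl⟩)
    have hexp : ∀ y ∈ Y, y * y = 1 ∨ y ^ 3 = 1 := fun y hy => by
      rcases perm_even _ (hev y hy) with h | h
      · exact Or.inl (e.injective (by rw [map_mul, h, map_one]))
      · exact Or.inr (e.injective (by rw [map_pow, h, map_one]))
    refine ⟨(hexp t htY).resolve_left ht, hexp, fun S z hz => ?_⟩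
    by_contra hzY
    have hodd : Equiv.Perm.sign (e z) ≠ 1 := fun h => hzY (by
      obtain ⟨y, hy, hye⟩ : e z ∈ Y.map e.toMonoidHom := hmap ▸ Equiv.Perm.mem_alternatingGroup.2 h
      exact (e.injective hye) ▸ hy)
    have hS : Nat.card (S : Subgroup G) = 8 := by
      rw [S.card_eq_multiplicity, Nat.card_congr e.toEquiv, Nat.card_eq_fintype_card, Fintype.card_perm,
        Fintype.card_fin, show Nat.factorial 4 = 2 ^ 3 * 3 by rfl,
        Nat.factorization_mul (by norm_num) (by norm_num)]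
      simp [Nat.prime_two.factorization_pow, Nat.prime_three.factorization, -Nat.reducePow]; norm_num
    haveI := Fintype.ofFinite (S : Subgroup G)
    have := perm_centraliser _ hodd
    refine absurd this (not_lt.2 ?_)
    rw [← hS, ← Fintype.card_coe, Nat.card_eq_fintype_card]
    refine Fintype.card_le_of_injective
      (fun s => ⟨e (s : G), Finset.mem_filter.2 ⟨Finset.mem_univ _, by rw [← map_mul, hz s s.2, map_mul]⟩⟩)
      fun a b h => Subtype.ext (e.injective (congrArg Subtype.val h))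
  · exfalso
    have hmn := hn.map e.toMonoidHom e.surjective
    rcases hmn.eq_bot_or_eq_top with h | h
    · refine ht ?_
      have : e t = 1 := Subgroup.mem_bot.1 (h ▸ ⟨t, htY, rfl⟩)
      rw [e.injective (this.trans (map_one e).symm), mul_one]
    · obtain ⟨y, hy, hye⟩ : e w ∈ Y.map e.toMonoidHom := h ▸ Subgroup.mem_top _
      exact hw ((e.injective hye) ▸ hy)

end Cfsg.Agent.Forms.Max.SU3.Orth.Abstract
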