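import Mathlib
import Cfsg.Prelude.Def_GeometricClasses
import Cfsg.Agent.Lib.Forms.Max.SU4.OrthSetup
import Cfsg.Agent.Lib.Forms.Max.SubfieldMem

/-!
# Orthogonal subfield groups in three-dimensional unitary groups: rational frames
-/

set_option autoImplicit false
set_option linter.unusedSectionVars false

namespace Cfsg.Agent.Forms.Max.SU3.Orth

open Matrix Cfsg.Agent.Classical.Unitary
open SU4.Orth (Data rv rv_add rv_smul rv_sub rv_neg rv_zero rv_eq_zero fix_iff pow_q_coe th th_ne th_q th_not_mem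
  hrat hB swap refl' hH0 rat_ext dual exists_perp exists_sum_squares rf rf_rv rf_perp two_ne two_ne' ringChar_ne_two)

variable {F : Type*} [Field F] [Fintype F] {q : ℕ}

local notation "Idx" => (Fin 3)
local notation "Vec" => (Fin 3 → F)
local notation "GLn" => GL (Fin 3) F
local notation "H" => Cfsg.hermForm 3 F q
local notation "SUn" => (Cfsg.GU 3 F q ⊓ Cfsg.Geo.specialLinear (Fin 3) F)
local notation "BF" => SU4.Orth.B

variable (D : Data F q 3)

/-- the subfield group -/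
def G0 : Subgroup GLn := Cfsg.Geo.subfieldSubgroup D.F₀ D.P

theorem mem_G0 (g : GLn) : g ∈ G0 D ↔ ∃ k : F, k ≠ 0 ∧ ∀ a : Idx → D.F₀, ∃ b : Idx → D.F₀,
    k • ((g : Matrix Idx Idx F) *ᵥ rv D a) = rv D b := SubfieldMem.mem_subfieldSubgroup D.F₀ D.P g

/-- a subgroup between the subfield group and the special unitary group -/
structure Ov (M : Subgroup GLn) : Prop where
  hMK : M ≤ SUn
  low : ∀ g ∈ SUn, g ∈ G0 D → g ∈ M

variable {D}

theorem Ov.ctx {M : Subgroup GLn} (C : Ov D M) : SU4.Orth.Ctx D M :=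
  ⟨C.hMK, fun g hg h => C.low g hg ((mem_G0 D g).2 ⟨1, one_ne_zero, fun a => by
    obtain ⟨b, hb⟩ := h a
    exact ⟨b, by rw [one_smul, hb]⟩⟩)⟩

theorem Ov.map_H {M : Subgroup GLn} (C : Ov D M) {g : GLn} (hg : g ∈ M) (u v : Vec) :
    H ((g : Matrix Idx Idx F) *ᵥ u) ((g : Matrix Idx Idx F) *ᵥ v) = H u v :=
  Unitary.SUn_H (C.hMK hg) u v

theorem Ov.det {M : Subgroup GLn} (C : Ov D M) {g : GLn} (hg : g ∈ M) :
    (g : Matrix Idx Idx F).det = 1 := ((Unitary.mem_SUn).1 (C.hMK hg)).2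

/-- a product of two rational reflections -/
theorem Ov.pair {M : Subgroup GLn} (C : Ov D M) (r s : Idx → D.F₀) (hr : BF D r r ≠ 0) (hs : BF D s s ≠ 0) :
    ∃ g ∈ M, g ∈ G0 D ∧ ∀ x, (g : Matrix Idx Idx F) *ᵥ x = rf (q := q) (rv D r) (rf (q := q) (rv D s) x) := by
  obtain ⟨g, hg, e⟩ := C.ctx.pair r s hr hs
  refine ⟨g, hg, (mem_G0 D g).2 ⟨1, one_ne_zero, fun a => ?_⟩, e⟩
  simp only [one_smul, e, rf_rv]
  exact ⟨_, rfl⟩

variable (D)

/-- three pairwise orthogonal anisotropic rational vectors -/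
structure Tri where
  f1 : Idx → D.F₀
  f2 : Idx → D.F₀
  f3 : Idx → D.F₀
  a1 : BF D f1 f1 ≠ 0
  a2 : BF D f2 f2 ≠ 0
  a3 : BF D f3 f3 ≠ 0
  p12 : BF D f1 f2 = 0
  p13 : BF D f1 f3 = 0
  p23 : BF D f2 f3 = 0

variable {D}

namespace Tri

variable (T : Tri D)

theorem p21 : BF D T.f2 T.f1 = 0 := refl' D _ _ T.p12
theorem p31 : BF D T.f3 T.f1 = 0 := refl' D _ _ T.p13
theorem p32 : BF D T.f3 T.f2 = 0 := refl' D _ _ T.p23

/-- the first vector -/
def u1 : Vec := rv D T.f1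
/-- the second vector -/
def u2 : Vec := rv D T.f2
/-- the third vector -/
def u3 : Vec := rv D T.f3

/-- the values -/
def d1 : F := (BF D T.f1 T.f1 : D.F₀)
/-- the values -/
def d2 : F := (BF D T.f2 T.f2 : D.F₀)
/-- the values -/
def d3 : F := (BF D T.f3 T.f3 : D.F₀)

theorem d1_ne : T.d1 ≠ 0 := fun h => T.a1 (Subtype.ext h)
theorem d2_ne : T.d2 ≠ 0 := fun h => T.a2 (Subtype.ext h)
theorem d3_ne : T.d3 ≠ 0 := fun h => T.a3 (Subtype.ext h)
theorem d1_q : T.d1 ^ q = T.d1 := pow_q_coe D _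
theorem d2_q : T.d2 ^ q = T.d2 := pow_q_coe D _
theorem d3_q : T.d3 ^ q = T.d3 := pow_q_coe D _
theorem H11 : H T.u1 T.u1 = T.d1 := hB D _ _
theorem H22 : H T.u2 T.u2 = T.d2 := hB D _ _
theorem H33 : H T.u3 T.u3 = T.d3 := hB D _ _
theorem H12 : H T.u1 T.u2 = 0 := by rw [u1, u2, hB, T.p12]; rfl
theorem H13 : H T.u1 T.u3 = 0 := by rw [u1, u3, hB, T.p13]; rfl
theorem H23 : H T.u2 T.u3 = 0 := by rw [u2, u3, hB, T.p23]; rfl
theorem H21 : H T.u2 T.u1 = 0 := by rw [u2, u1, hB, T.p21]; rfl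
theorem H31 : H T.u3 T.u1 = 0 := by rw [u3, u1, hB, T.p31]; rfl
theorem H32 : H T.u3 T.u2 = 0 := by rw [u3, u2, hB, T.p32]; rfl

theorem exists_comb (x : Vec) : ∃ a b c : F, x = a • T.u1 + b • T.u2 + c • T.u3 := by
  have hli : LinearIndependent F ![T.u1, T.u2, T.u3] := by
    rw [Fintype.linearIndependent_iff]
    intro g hg
    simp only [Fin.sum_univ_three, Matrix.cons_val_zero, Matrix.cons_val_one, Matrix.cons_val] at hg
    have h1 := congrArg (fun v => H v T.u1) hg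
    have h2 := congrArg (fun v => H v T.u2) hg
    have h3 := congrArg (fun v => H v T.u3) hg
    simp only [H_add_left, H_smul_left, H_zero_left, T.H11, T.H12, T.H13, T.H21, T.H22, T.H23, T.H31, T.H32, T.H33,
      mul_zero, add_zero, zero_add] at h1 h2 h3
    intro i
    fin_cases i
    · exact (mul_eq_zero.1 h1).resolve_right T.d1_ne
    · exact (mul_eq_zero.1 h2).resolve_right T.d2_ne
    · exact (mul_eq_zero.1 h3).resolve_right T.d3_ne
  have hsp := hli.span_eq_top_of_card_eq_finrank (by rw [Fintype.card_fin, Module.finrank_fintype_fun_eq_card,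
    Fintype.card_fin])
  have hx : x ∈ Submodule.span F (Set.range ![T.u1, T.u2, T.u3]) := hsp ▸ Submodule.mem_top
  obtain ⟨c, hc⟩ := (Submodule.mem_span_range_iff_exists_fun F).1 hx
  simp only [Fin.sum_univ_three, Matrix.cons_val_zero, Matrix.cons_val_one, Matrix.cons_val] at hc
  exact ⟨_, _, _, hc.symm⟩

theorem expand (x : Vec) :
    x = (H x T.u1 / T.d1) • T.u1 + (H x T.u2 / T.d2) • T.u2 + (H x T.u3 / T.d3) • T.u3 := by
  obtain ⟨a, b, c, rfl⟩ := T.exists_comb x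
  simp only [H_add_left, H_smul_left, T.H11, T.H12, T.H13, T.H21, T.H22, T.H23, T.H31, T.H32, T.H33, mul_zero,
    add_zero, zero_add, mul_div_cancel_right₀ _ T.d1_ne, mul_div_cancel_right₀ _ T.d2_ne,
    mul_div_cancel_right₀ _ T.d3_ne]

theorem ext_gl {g g' : GLn} (h1 : (g : Matrix Idx Idx F) *ᵥ T.u1 = (g' : Matrix Idx Idx F) *ᵥ T.u1)
    (h2 : (g : Matrix Idx Idx F) *ᵥ T.u2 = (g' : Matrix Idx Idx F) *ᵥ T.u2)
    (h3 : (g : Matrix Idx Idx F) *ᵥ T.u3 = (g' : Matrix Idx Idx F) *ᵥ T.u3) : g = g' :=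
  Max.gl_ext fun x => by
    rw [T.expand x]; simp only [mulVec_add, mulVec_smul, h1, h2, h3]

/-- membership in the subfield group is tested on a frame -/
theorem mem_of_images (g : GLn) {k : F} (hk : k ≠ 0) {b1 b2 b3 : Idx → D.F₀}
    (h1 : k • ((g : Matrix Idx Idx F) *ᵥ T.u1) = rv D b1) (h2 : k • ((g : Matrix Idx Idx F) *ᵥ T.u2) = rv D b2)
    (h3 : k • ((g : Matrix Idx Idx F) *ᵥ T.u3) = rv D b3) : g ∈ G0 D := by
  refine (mem_G0 D g).2 ⟨k, hk, fun a => ⟨(BF D a T.f1 / BF D T.f1 T.f1) • b1 +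
    (BF D a T.f2 / BF D T.f2 T.f2) • b2 + (BF D a T.f3 / BF D T.f3 T.f3) • b3, ?_⟩⟩
  conv_lhs => rw [T.expand (rv D a)]
  simp only [rv_add, rv_smul, mulVec_add, mulVec_smul, smul_add, smul_comm k, h1, h2, h3]
  simp only [u1, u2, u3, hB, d1, d2, d3]
  push_cast
  rfl

/-- the determinant in a frame -/
theorem det_eq {A : Matrix Idx Idx F} {c : Matrix Idx Idx F}
    (h1 : A *ᵥ T.u1 = c 0 0 • T.u1 + c 1 0 • T.u2 + c 2 0 • T.u3)
    (h2 : A *ᵥ T.u2 = c 0 1 • T.u1 + c 1 1 • T.u2 + c 2 1 • T.u3)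
    (h3 : A *ᵥ T.u3 = c 0 2 • T.u1 + c 1 2 • T.u2 + c 2 2 • T.u3) : A.det = c.det := by
  set P : Matrix Idx Idx F := Matrix.of fun i j => (![T.u1, T.u2, T.u3] j) i with hP
  have hcol : A * P = P * c := by
    ext i j
    have e1 := congrFun h1 i
    have e2 := congrFun h2 i
    have e3 := congrFun h3 i
    simp only [Matrix.mulVec, dotProduct, Fin.sum_univ_three, Pi.add_apply, Pi.smul_apply, smul_eq_mul] at e1 e2 e3
    fin_cases j <;> simp [hP, Matrix.mul_apply, Fin.sum_univ_three, e1, e2, e3] <;> ring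
  have hPdet : P.det ≠ 0 := by
    intro h0
    obtain ⟨x, hx0, hx⟩ := Matrix.exists_mulVec_eq_zero_iff.2 h0
    have hlin : x 0 • T.u1 + x 1 • T.u2 + x 2 • T.u3 = 0 := by
      funext i
      have := congrFun hx i
      simp [hP, Matrix.mulVec, dotProduct, Fin.sum_univ_three] at this
      simp only [Pi.add_apply, Pi.smul_apply, smul_eq_mul, Pi.zero_apply]
      linear_combination this
    have c1 := congrArg (fun v => H v T.u1) hlin
    have c2 := congrArg (fun v => H v T.u2) hlin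
    have c3 := congrArg (fun v => H v T.u3) hlin
    simp only [H_add_left, H_smul_left, H_zero_left, T.H11, T.H12, T.H13, T.H21, T.H22, T.H23, T.H31, T.H32, T.H33,
      mul_zero, add_zero, zero_add, mul_eq_zero, T.d1_ne, T.d2_ne, T.d3_ne, or_false] at c1 c2 c3
    exact hx0 (funext fun i => by fin_cases i <;> assumption)
  have e := congrArg Matrix.det hcol
  rw [Matrix.det_mul, Matrix.det_mul, mul_comm] at e
  exact mul_left_cancel₀ hPdet e

/-- the first eigenvector of the rotations -/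
def n1 (i : F) : Vec := T.u1 + i • T.u2

/-- diagonal action on the rotation eigenvectors -/
theorem det_diag {A : Matrix Idx Idx F} {i : F} (hi : i ≠ 0) {α β l : F} (hα : A *ᵥ T.n1 i = α • T.n1 i)
    (hβ : A *ᵥ T.n1 (-i) = β • T.n1 (-i)) (hl : A *ᵥ T.u3 = l • T.u3) : A.det = α * β * l := by
  have h2 := two_ne D
  have e1 : (2 : F) • T.u1 = T.n1 i + T.n1 (-i) := by rw [n1, n1]; module
  have e2 : (2 * i) • T.u2 = T.n1 i - T.n1 (-i) := by rw [n1, n1]; module
  have a1 : A *ᵥ T.u1 = ((α + β) / 2) • T.u1 + (i * (α - β) / 2) • T.u2 := by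
    refine smul_right_injective Vec h2 ?_
    show (2 : F) • _ = (2 : F) • _
    rw [← mulVec_smul, e1, mulVec_add, hα, hβ, n1, n1]
    match_scalars <;> field_simp <;> ring
  have a2 : A *ᵥ T.u2 = ((α - β) / (2 * i)) • T.u1 + ((α + β) / 2) • T.u2 := by
    refine smul_right_injective Vec (mul_ne_zero h2 hi) ?_
    show (2 * i) • _ = (2 * i) • _
    rw [← mulVec_smul, e2, mulVec_sub, hα, hβ, n1, n1]
    match_scalars <;> field_simp <;> ring
  rw [T.det_eq (A := A) (c := !![(α + β) / 2, (α - β) / (2 * i), 0; i * (α - β) / 2, (α + β) / 2, 0; 0, 0, l])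
    (by simp [a1]) (by simp [a2]) (by simp [hl])]
  rw [Matrix.det_fin_three]
  simp
  field_simp
  ring

end Tri

variable (D)

/-- the square class deciding the type of an anisotropic vector -/
noncomputable def disc : D.F₀ := -(LinearMap.BilinForm.toMatrix' (BF D)).det

/-- split type -/
def Split (v : Idx → D.F₀) : Prop := IsSquare (disc D * BF D v v)

theorem disc_ne : disc D ≠ 0 := by
  rw [disc, neg_ne_zero]
  intro h
  obtain ⟨x, hx0, hx⟩ := Matrix.exists_mulVec_eq_zero_iff.2 h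
  refine hx0 ((SU4.Orth.nondeg D).2 x fun y => ?_)
  rw [← Matrix.toBilin'_toMatrix' (BF D), Matrix.toBilin'_apply', hx, dotProduct_zero]

variable {D}

theorem Tri.split_iff (T : Tri D) : Split D T.f3 ↔ IsSquare (-(BF D T.f1 T.f1 * BF D T.f2 T.f2)) := by
  classical
  set C : Matrix Idx Idx D.F₀ := Matrix.of ![T.f1, T.f2, T.f3] with hC
  have e : C * LinearMap.BilinForm.toMatrix' (BF D) * Cᵀ =
      Matrix.diagonal ![BF D T.f1 T.f1, BF D T.f2 T.f2, BF D T.f3 T.f3] := by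
    ext i j
    rw [Matrix.mul_assoc]
    have key : ∀ a b : Idx → D.F₀, a ⬝ᵥ LinearMap.BilinForm.toMatrix' (BF D) *ᵥ b = BF D a b := fun a b => by
      rw [← Matrix.toBilin'_apply', Matrix.toBilin'_toMatrix']
    have : (C * (LinearMap.BilinForm.toMatrix' (BF D) * Cᵀ)) i j = BF D (C i) (C j) := by
      rw [← key]
      simp only [Matrix.mul_apply, dotProduct, Matrix.mulVec, Matrix.transpose_apply]
    have hrow : ∀ i, C i = ![T.f1, T.f2, T.f3] i := fun i => rfl
    rw [this, hrow, hrow]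
    fin_cases i <;> fin_cases j <;>
      simp [T.p12, T.p13, T.p23, T.p21, T.p31, T.p32]
  have h := congrArg Matrix.det e
  rw [Matrix.det_mul, Matrix.det_mul, Matrix.det_transpose, Matrix.det_diagonal, Fin.prod_univ_three] at h
  simp only [Matrix.cons_val_zero, Matrix.cons_val_one, Matrix.cons_val] at h
  have hc : C.det ≠ 0 := fun h0 => by
    rw [h0] at h
    simp [T.a1, T.a2, T.a3] at h
  have key : disc D * BF D T.f3 T.f3 * (C.det / BF D T.f3 T.f3) ^ 2 = -(BF D T.f1 T.f1 * BF D T.f2 T.f2) := by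
    rw [disc]
    have := T.a3
    field_simp
    linear_combination -h
  rw [Split, ← key]
  refine ⟨fun h => h.mul (IsSquare.sq _), fun h => ?_⟩
  have hq : (C.det / BF D T.f3 T.f3) ^ 2 ≠ 0 := pow_ne_zero _ (div_ne_zero hc T.a3)
  simpa [mul_div_cancel_right₀ _ hq] using h.div (IsSquare.sq (C.det / BF D T.f3 T.f3))

variable (D)

theorem exists_aniso : ∃ v : Idx → D.F₀, BF D v v ≠ 0 := by
  obtain ⟨e, -, he⟩ := dual D (Pi.single 0 1) ⊥ (by simp)
  by_contra hc
  push Not at hc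
  have h := hc (Pi.single 0 1 + e)
  simp only [map_add, LinearMap.add_apply, hc, swap D (Pi.single 0 1) e, he, zero_add, add_zero] at h
  exact two_ne' D (by rw [← one_add_one_eq_two]; exact h)

variable {D}

theorem exists_tri {v : Idx → D.F₀} (hv : BF D v v ≠ 0) : ∃ T : Tri D, T.f3 = v := by
  obtain ⟨r, hr0, hr⟩ := exists_perp D ![v] (by norm_num)
  have hvr : BF D v r = 0 := hr 0
  obtain ⟨f, hvf, hff⟩ : ∃ f, BF D v f = 0 ∧ BF D f f ≠ 0 := by
    by_cases hrr : BF D r r = 0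
    swap
    · exact ⟨r, hvr, hrr⟩
    obtain ⟨e, he, hre⟩ := dual D r (Submodule.span D.F₀ {v}) fun hm => by
      obtain ⟨t, rfl⟩ := Submodule.mem_span_singleton.1 hm
      simp [hv] at hvr
      simp [hvr] at hr0
    have hve := he v (Submodule.mem_span_singleton_self v)
    by_cases hee : BF D e e = 0
    · refine ⟨r + e, by rw [map_add, hvr, hve, add_zero], ?_⟩
      simp only [map_add, LinearMap.add_apply, hrr, hee, swap D r e, hre, zero_add, add_zero]
      rw [one_add_one_eq_two]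
      exact two_ne' D
    · exact ⟨e, hve, hee⟩
  obtain ⟨g, hg0, hg⟩ := exists_perp D ![v, f] (by norm_num)
  have hvg : BF D v g = 0 := hg 0
  have hfg : BF D f g = 0 := hg 1
  refine ⟨⟨f, g, v, hff, fun hgg => hg0 ?_, hv, hfg, refl' D _ _ hvf, refl' D _ _ hvg⟩, rfl⟩
  by_contra hne
  obtain ⟨e, -, hge⟩ := dual D g ⊥ (by simpa using hne)
  set z := e - (BF D v e / BF D v v) • v - (BF D f e / BF D f f) • f with hz
  have hgz : BF D g z = 1 := by
    simp only [hz, map_sub, map_smul, hge, refl' D _ _ hvg, refl' D _ _ hfg, smul_zero, sub_zero]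
  have hvz : BF D v z = 0 := by
    simp [hz, hvf, div_mul_cancel₀ _ hv]
  have hfz : BF D f z = 0 := by
    simp [hz, refl' D _ _ hvf, div_mul_cancel₀ _ hff]
  -- four vectors would be independent
  have hli : LinearIndependent D.F₀ ![v, f, g, z] := by
    rw [Fintype.linearIndependent_iff]
    intro c hc
    simp only [Fin.sum_univ_four, Matrix.cons_val_zero, Matrix.cons_val_one, Matrix.cons_val] at hc
    have h1 := congrArg (BF D v) hc
    have h2 := congrArg (BF D f) hc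
    have h3 := congrArg (BF D g) hc
    simp [hvf, hvg, hvz, hfg, hfz, refl' D _ _ hvf, refl' D _ _ hvg, refl' D _ _ hfg, hgz, hgg, hv, hff] at h1 h2 h3
    rw [h1, h2, h3, zero_smul, zero_smul, zero_smul, zero_add, zero_add, add_zero] at hc
    intro i
    fin_cases i
    · exact h1
    · exact h2
    · exact (smul_eq_zero.1 hc).resolve_right hne
    · exact h3
  have := hli.fintype_card_le_finrank
  rw [Module.finrank_fintype_fun_eq_card, Fintype.card_fin, Fintype.card_fin] at this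
  omega

/-- a frame through a given axis with prescribed first value -/
theorem exists_tri_value {v : Idx → D.F₀} (hv : BF D v v ≠ 0) {c : D.F₀} (hc : c ≠ 0) :
    ∃ T : Tri D, T.f3 = v ∧ BF D T.f1 T.f1 = c := by
  obtain ⟨T, rfl⟩ := exists_tri hv
  obtain ⟨s, t, hst⟩ := exists_sum_squares D (c := c) T.a1 T.a2
  set g := (-(t * BF D T.f2 T.f2)) • T.f1 + (s * BF D T.f1 T.f1) • T.f2 with hg
  have hg2 : BF D g g = BF D T.f1 T.f1 * BF D T.f2 T.f2 * c := by
    simp [hg, T.p12, T.p21]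
    linear_combination (BF D T.f1 T.f1 * BF D T.f2 T.f2) * hst
  refine ⟨⟨s • T.f1 + t • T.f2, g, T.f3, ?_, ?_, T.a3, ?_, ?_, ?_⟩, rfl, ?_⟩
  · simp [T.p12, T.p21]
    exact fun h => hc (by linear_combination h - hst)
  · rw [hg2]; exact mul_ne_zero (mul_ne_zero T.a1 T.a2) hc
  · simp [hg, T.p12, T.p21]; ring
  · simp [T.p13, T.p23]
  · simp [hg, T.p13, T.p23]
  · simp [T.p12, T.p21]
    linear_combination hst

variable (D)

theorem exists_value {c : D.F₀} (hc : c ≠ 0) : ∃ v, BF D v v = c := by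
  obtain ⟨w, hw⟩ := exists_aniso D
  obtain ⟨T, -, hT⟩ := exists_tri_value hw hc
  exact ⟨T.f1, hT⟩

theorem exists_split : ∃ v, BF D v v ≠ 0 ∧ Split D v := by
  obtain ⟨v, hv⟩ := exists_value D (inv_ne_zero (disc_ne D))
  exact ⟨v, hv ▸ inv_ne_zero (disc_ne D), by rw [Split, hv, mul_inv_cancel₀ (disc_ne D)]; exact IsSquare.one⟩

theorem exists_nonsplit : ∃ v, BF D v v ≠ 0 ∧ ¬ Split D v := by
  haveI := Fintype.ofFinite D.F₀
  obtain ⟨c, hc⟩ := FiniteField.exists_nonsquare (F := D.F₀) (ringChar_ne_two D)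
  have hc0 : c ≠ 0 := fun h => hc (h ▸ IsSquare.zero)
  obtain ⟨v, hv⟩ := exists_value D (div_ne_zero hc0 (disc_ne D))
  exact ⟨v, hv ▸ div_ne_zero hc0 (disc_ne D), by rw [Split, hv, mul_div_cancel₀ _ (disc_ne D)]; exact hc⟩

variable {D}

theorem split_smul {v : Idx → D.F₀} (hv : Split D v) (t : D.F₀) : Split D (t • v) := by
  rw [Split, show disc D * BF D (t • v) (t • v) = disc D * BF D v v * t ^ 2 by simp; ring]
  exact hv.mul (IsSquare.sq t)

/-- split frames have a singular vector in their plane -/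
theorem Tri.split_of_sing (T : Tri D) {z : Idx → D.F₀} (hz : z ≠ 0) (hzz : BF D z z = 0)
    (hz3 : BF D z T.f3 = 0) : Split D T.f3 := by
  rw [T.split_iff]
  have ez : rv D z = ((BF D z T.f1 / BF D T.f1 T.f1 : D.F₀) : F) • T.u1 +
      ((BF D z T.f2 / BF D T.f2 T.f2 : D.F₀) : F) • T.u2 := by
    conv_lhs => rw [T.expand (rv D z)]
    simp only [Tri.u3, hB, hz3, ZeroMemClass.coe_zero, zero_div, zero_smul, add_zero]
    simp only [Tri.u1, Tri.u2, hB, Tri.d1, Tri.d2]
    push_cast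
    rfl
  have h := hB D z z
  rw [hzz] at h
  have hs : ∀ t : D.F₀, (t : F) ^ q = t := pow_q_coe D
  nth_rewrite 1 [ez] at h
  nth_rewrite 1 [ez] at h
  simp only [H_add_left, H_add_right D.hF, H_smul_left, H_smul_right, T.H11, T.H22, T.H12, T.H21, hs, mul_zero,
    add_zero, zero_add] at h
  set x := BF D z T.f1 / BF D T.f1 T.f1 with hx
  set y := BF D z T.f2 / BF D T.f2 T.f2 with hy
  have h' : x * (x * BF D T.f1 T.f1) + y * (y * BF D T.f2 T.f2) = 0 := Subtype.ext (by push_cast; exact h)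
  have hy0 : y ≠ 0 := fun h0 => by
    have hx0 : x = 0 := by
      rw [h0, zero_mul, add_zero] at h'
      rcases mul_eq_zero.1 h' with h1 | h1
      · exact h1
      · exact (mul_eq_zero.1 h1).resolve_right T.a1
    exact hz (rv_eq_zero D (by rw [ez, hx0, h0]; simp))
  refine ⟨x * BF D T.f1 T.f1 / y, ?_⟩
  field_simp
  linear_combination (-(BF D T.f1 T.f1)) * h'

theorem isSquare_coe (c : D.F₀) : IsSquare (c : F) := by
  by_cases hc : (c : F) = 0
  · rw [hc]; exact IsSquare.zero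
  have h2 : ringChar F ≠ 2 := fun h => two_ne D (by
    haveI : CharP F 2 := h ▸ ringChar.charP F
    exact CharTwo.two_eq_zero)
  rw [FiniteField.isSquare_iff h2 hc, D.hF]
  obtain ⟨j, hj⟩ := D.hodd
  subst hj
  have e : (2 * j + 1) ^ 2 / 2 = (2 * j) * (j + 1) := by
    have h : (2 * j + 1) ^ 2 = 2 * ((2 * j) * (j + 1)) + 1 := by ring
    omega
  have h1 : (c : F) ^ (2 * j) = 1 := mul_right_cancel₀ hc (by rw [one_mul, ← pow_succ]; exact pow_q_coe D c)
  rw [e, pow_mul, h1, one_pow]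

/-- the eigenvalue parameter of a frame -/
theorem Tri.exists_i (T : Tri D) : ∃ i : F, i ≠ 0 ∧ i * i * T.d2 = -T.d1 ∧
    (Split D T.f3 → i ∈ D.F₀) ∧ (¬ Split D T.f3 → i ^ q = -i) := by
  obtain ⟨i, hi⟩ := isSquare_coe (-(BF D T.f1 T.f1) / BF D T.f2 T.f2)
  have hd2 := T.d2_ne
  have hii : i * i * T.d2 = -T.d1 := by
    rw [← hi]
    push_cast
    rw [Tri.d1, Tri.d2] at *
    field_simp
  have hi0 : i ≠ 0 := fun h => by
    rw [h, zero_mul, zero_mul, eq_comm, neg_eq_zero] at hii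
    exact T.d1_ne hii
  have hsq : (i ^ q) * (i ^ q) = i * i := by
    rw [← mul_pow, ← hi]; exact pow_q_coe D _
  refine ⟨i, hi0, hii, fun hs => ?_, fun hs => ?_⟩
  · obtain ⟨s, hs⟩ := (T.split_iff).1 hs
    have hs' : -(T.d1 * T.d2) = (s : F) * s := by
      have := congrArg (fun x : D.F₀ => (x : F)) hs
      simpa [Tri.d1, Tri.d2] using this
    rcases mul_self_eq_mul_self_iff.1 (show i * T.d2 * (i * T.d2) = (s : F) * s by
      linear_combination T.d2 * hii + hs') with h | h <;>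
      rw [← mul_div_cancel_right₀ i hd2, h]
    · exact D.F₀.div_mem s.2 (BF D T.f2 T.f2).2
    · exact D.F₀.div_mem (neg_mem s.2) (BF D T.f2 T.f2).2
  · rcases mul_self_eq_mul_self_iff.1 hsq with h | h
    · exact absurd ((T.split_iff).2 ⟨(⟨i, (fix_iff D i).2 h⟩ : D.F₀) * BF D T.f2 T.f2, Subtype.ext (by
        push_cast
        simp only [Tri.d1, Tri.d2] at hii
        linear_combination (BF D T.f2 T.f2 : F) * (-hii))⟩) hs
    · exact h

variable {M : Subgroup (GL (Fin 3) F)} (C : Ov D M)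
include C

/-- rational elements are transitive on vectors of given value -/
theorem Ov.move {u v : Idx → D.F₀} (huv : BF D u u = BF D v v) (hu : BF D u u ≠ 0) :
    ∃ g ∈ M, g ∈ G0 D ∧ ∃ ε : F, ε ≠ 0 ∧ (g : Matrix Idx Idx F) *ᵥ rv D u = ε • rv D v := by
  have hv : BF D v v ≠ 0 := huv ▸ hu
  obtain ⟨T, hT⟩ := exists_tri hv
  have hr : BF D T.f1 T.f1 ≠ 0 := T.a1
  have hvr : BF D v T.f1 = 0 := hT ▸ T.p31
  have h2 := two_ne' D
  by_cases hp : BF D (u + v) (u + v) = 0
  · have hm : BF D (u - v) (u - v) ≠ 0 := fun hm => by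
      simp only [map_add, LinearMap.add_apply, map_sub, LinearMap.sub_apply] at hp hm
      exact mul_ne_zero (mul_ne_zero h2 h2) hu (by linear_combination hp + hm + 2 * huv)
    obtain ⟨g, hg, hg0, e⟩ := C.pair T.f1 (u - v) hr hm
    refine ⟨g, hg, hg0, 1, one_ne_zero, ?_⟩
    rw [one_smul, e, rf_rv, rf_rv]
    congr 1
    have key : u + ((-1 - 1) / BF D (u - v) (u - v) * BF D u (u - v)) • (u - v) = v := by
      have : (-1 - 1) / BF D (u - v) (u - v) * BF D u (u - v) = -1 := by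
        rw [div_mul_eq_mul_div, div_eq_iff hm]
        simp only [map_sub, LinearMap.sub_apply, swap D u v]
        linear_combination -huv
      rw [this]; module
    rw [key, hvr, mul_zero, zero_smul, add_zero]
  · obtain ⟨g, hg, hg0, e⟩ := C.pair T.f1 (u + v) hr hp
    refine ⟨g, hg, hg0, -1, neg_ne_zero.2 one_ne_zero, ?_⟩
    have key : u + ((-1 - 1) / BF D (u + v) (u + v) * BF D u (u + v)) • (u + v) = -v := by
      have : (-1 - 1) / BF D (u + v) (u + v) * BF D u (u + v) = -1 := by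
        rw [div_mul_eq_mul_div, div_eq_iff hp]
        simp only [map_add, LinearMap.add_apply, swap D u v]
        linear_combination -huv
      rw [this]; module
    rw [e, rf_rv, rf_rv, key, neg_one_smul, map_neg, LinearMap.neg_apply, hvr, neg_zero, mul_zero, zero_smul,
      add_zero, rv_neg]

/-- rotations -/
theorem Ov.rot (T : Tri D) {i α : F} (hi0 : i ≠ 0) (hii : i * i * T.d2 = -T.d1) (hα : α ≠ 0) (hα1 : α ≠ -1)
    (hc : (α + α⁻¹) / 2 ∈ D.F₀) (hs : i * (α - α⁻¹) / 2 ∈ D.F₀) :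
    ∃ g ∈ M, g ∈ G0 D ∧ (g : Matrix Idx Idx F) *ᵥ T.n1 i = α • T.n1 i ∧
      (g : Matrix Idx Idx F) *ᵥ T.n1 (-i) = α⁻¹ • T.n1 (-i) ∧ (g : Matrix Idx Idx F) *ᵥ T.u3 = T.u3 := by
  have h2 := two_ne D
  set c : D.F₀ := ⟨_, hc⟩ with hcdef
  set s : D.F₀ := ⟨_, hs⟩ with hsdef
  set w := (1 + c) • T.f1 + s • T.f2 with hw
  have hα1' : α + 1 ≠ 0 := fun h => hα1 (eq_neg_of_add_eq_zero_left h)
  have hsq : (α + α⁻¹) / 2 + 1 = (α + 1) ^ 2 / (2 * α) := by field_simp; ring
  have hwF : rv D w = (1 + (α + α⁻¹) / 2) • T.u1 + (i * (α - α⁻¹) / 2) • T.u2 := by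
    rw [hw, rv_add, rv_smul, rv_smul]; push_cast; rfl
  have hq1 : ((α + α⁻¹) / 2 + 1) ^ q = (α + α⁻¹) / 2 + 1 := (fix_iff D _).1 (add_mem hc (one_mem _))
  have hq1' : (1 + (α + α⁻¹) / 2) ^ q = 1 + (α + α⁻¹) / 2 := by rw [add_comm]; exact hq1
  have hq2 : (i * (α - α⁻¹) / 2) ^ q = i * (α - α⁻¹) / 2 := (fix_iff D _).1 hs
  have hd2e : T.d2 = -T.d1 / (i * i) := by rw [eq_div_iff (mul_ne_zero hi0 hi0)]; linear_combination hii
  have hHw : H (rv D w) (rv D w) = T.d1 * (α + 1) ^ 2 / α := by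
    rw [hwF]
    simp only [H_add_left, H_add_right D.hF, H_smul_left, H_smul_right, T.H11, T.H22, T.H12, T.H21, hq1', hq2,
      mul_zero, add_zero, zero_add]
    rw [hd2e]
    field_simp
    ring
  have hHw0 : H (rv D w) (rv D w) ≠ 0 := by
    rw [hHw]; exact div_ne_zero (mul_ne_zero T.d1_ne (pow_ne_zero _ hα1')) hα
  obtain ⟨g, hg, hg0, e⟩ := C.pair w T.f1 (fun h => hHw0 (by rw [hB, h]; rfl)) T.a1
  have key : ∀ (j β : F), (1 + (α + α⁻¹) / 2) = (β + 1) ^ 2 / (2 * β) → β ≠ 0 → β + 1 ≠ 0 → j ≠ 0 →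
      i * (α - α⁻¹) = j * (β - β⁻¹) → i * i = j * j →
      (g : Matrix Idx Idx F) *ᵥ T.n1 j = β • T.n1 j := by
    intro j β h1 hβ hβ1 hj h2' hij
    rw [e, Tri.n1]
    have a1 : rf (q := q) T.u1 (T.u1 + j • T.u2) = -T.u1 + j • T.u2 := by
      simp only [rf, H_add_left, H_smul_left, T.H11, T.H21, mul_zero, add_zero]
      have := T.d1_ne
      match_scalars <;> field_simp
      ring
    rw [show rv D T.f1 = T.u1 from rfl, a1, rf, hHw, hwF]
    simp only [H_add_left, H_add_right D.hF, H_neg_left, H_smul_left, H_smul_right, T.H11, T.H22, T.H12, T.H21,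
      hq1', hq2, mul_zero, add_zero, zero_add, neg_zero]
    rw [hd2e, hij, h2', h1]
    have e4 : (α + 1) ^ 2 / α = (β + 1) ^ 2 / β := by
      have e5 : (α + α⁻¹) / 2 + 1 = (β + 1) ^ 2 / (2 * β) := by rw [add_comm]; exact h1
      rw [hsq] at e5
      field_simp at e5 ⊢
      exact e5
    rw [show T.d1 * (α + 1) ^ 2 / α = T.d1 * ((β + 1) ^ 2 / β) by rw [← e4]; ring]
    have := T.d1_ne
    match_scalars <;> field_simp <;> ring
  refine ⟨g, hg, hg0, key i α (by rw [add_comm]; exact hsq) hα hα1' hi0 rfl rfl,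
    key (-i) α⁻¹ ?_ (inv_ne_zero hα) ?_ (neg_ne_zero.2 hi0) ?_ (by ring), ?_⟩
  · field_simp; ring
  · intro h
    refine hα1' ?_
    field_simp at h
    linear_combination h
  · rw [inv_inv]; ring
  · rw [e, show rv D T.f1 = T.u1 from rfl, rf_perp (r := T.u1) T.H31, rf_perp]
    rw [hwF, H_add_right D.hF, H_smul_right, H_smul_right, T.H31, T.H32, mul_zero, mul_zero, add_zero]

/-- the reversal -/
theorem Ov.rev (T : Tri D) : ∃ g ∈ M, g ∈ G0 D ∧ (∀ i : F, (g : Matrix Idx Idx F) *ᵥ T.n1 i = -T.n1 (-i)) ∧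
    (g : Matrix Idx Idx F) *ᵥ T.u3 = -T.u3 := by
  obtain ⟨g, hg, hg0, e⟩ := C.pair T.f1 T.f3 T.a1 T.a3
  have := T.d1_ne
  have := T.d3_ne
  refine ⟨g, hg, hg0, fun i => ?_, ?_⟩
  · rw [e, show rv D T.f3 = T.u3 from rfl, rf_perp (r := T.u3) (by
      simp [Tri.n1, H_add_left, H_smul_left, T.H13, T.H23])]
    simp only [rf, Tri.n1, show rv D T.f1 = T.u1 from rfl, H_add_left, H_smul_left, T.H11, T.H21, mul_zero, add_zero]
    match_scalars <;> field_simp
    ring
  · rw [e, show rv D T.f3 = T.u3 from rfl, show rv D T.f1 = T.u1 from rfl]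
    have h3 : rf (q := q) T.u3 T.u3 = -T.u3 := by
      simp only [rf, T.H33]; match_scalars <;> field_simp
      ring
    rw [h3, rf_perp]
    rw [H_neg_left, T.H31, neg_zero]

/-- the involution with axis the third vector -/
theorem Ov.hinv (T : Tri D) : ∃ g ∈ M, g ∈ G0 D ∧ (g : Matrix Idx Idx F) *ᵥ T.u1 = -T.u1 ∧
    (g : Matrix Idx Idx F) *ᵥ T.u2 = -T.u2 ∧ (g : Matrix Idx Idx F) *ᵥ T.u3 = T.u3 := by
  obtain ⟨g, hg, hg0, e⟩ := C.pair T.f1 T.f2 T.a1 T.a2
  have := T.d1_ne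
  have := T.d2_ne
  simp only [show rv D T.f1 = T.u1 from rfl, show rv D T.f2 = T.u2 from rfl] at e
  refine ⟨g, hg, hg0, ?_, ?_, ?_⟩
  · rw [e, rf_perp (r := T.u2) T.H12]
    simp only [rf, T.H11]; match_scalars <;> field_simp
    ring
  · have h3 : rf (q := q) T.u2 T.u2 = -T.u2 := by
      simp only [rf, T.H22]; match_scalars <;> field_simp
      ring
    rw [e, h3, rf_perp]
    rw [H_neg_left, T.H21, neg_zero]
  · rw [e, rf_perp (r := T.u2) T.H32, rf_perp T.H31]

end Cfsg.Agent.Forms.Max.SU3.Orth
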