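import Mathlib
import Cfsg.Agent.Lib.Forms.Max.SU3.Orth.Base

/-!
# Overgroups without transvections at rational points
-/

set_option autoImplicit false
set_option linter.unusedSectionVars false

namespace Cfsg.Agent.Forms.Max.SU3.Orth

open Matrix Cfsg.Agent.Classical.Unitary
open SubfieldUnitary (InM inM_of inM_map inM_smul exists_tvM)
open OrthInUnitary (Sg0)
open SU4.Orth (Data rv rv_add rv_smul rv_sub rv_neg rv_zero rv_eq_zero fix_iff pow_q_coe hrat hB refl' hH0 dual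
  two_ne two_ne')

variable {F : Type*} [Field F] [Fintype F] {q : ℕ}

local notation "Idx" => (Fin 3)
local notation "Vec" => (Fin 3 → F)
local notation "Mat" => Matrix (Fin 3) (Fin 3) F
local notation "GLn" => GL (Fin 3) F
local notation "H" => Cfsg.hermForm 3 F q
local notation "SUn" => (Cfsg.GU 3 F q ⊓ Cfsg.Geo.specialLinear (Fin 3) F)
local notation "BF" => SU4.Orth.B

variable {D : Data F q 3}

/-- no transvection at a rational centre -/
def NoRoot (D : Data F q 3) (M : Subgroup GLn) : Prop :=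
  ∀ (a : Idx → D.F₀) (c : F), a ≠ 0 → BF D a a = 0 → c + c ^ q = 0 → InM q M (rv D a) c → c = 0

/-- a split frame with its parameter -/
structure SplitAt (T : Tri D) (i : F) : Prop where
  ne : i ≠ 0
  sq : i * i * T.d2 = -T.d1
  mem : i ∈ D.F₀

namespace SplitAt

variable {T : Tri D} {i : F}

theorem neg (hi : SplitAt T i) : SplitAt T (-i) :=
  ⟨neg_ne_zero.2 hi.ne, by linear_combination hi.sq, neg_mem hi.mem⟩

theorem iq (hi : SplitAt T i) : i ^ q = i := (fix_iff D i).1 hi.mem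

variable (hi : SplitAt T i)
include hi

theorem rat : ∃ a : Idx → D.F₀, rv D a = T.n1 i :=
  ⟨T.f1 + (⟨i, hi.mem⟩ : D.F₀) • T.f2, by rw [rv_add, rv_smul]; rfl⟩

theorem Hnn : H (T.n1 i) (T.n1 i) = 0 := by
  simp only [Tri.n1, H_add_left, H_add_right D.hF, H_smul_left, H_smul_right, T.H11, T.H22, T.H12, T.H21, hi.iq,
    mul_zero, add_zero, zero_add]
  linear_combination hi.sq

theorem Hnn' : H (T.n1 i) (T.n1 (-i)) = 2 * T.d1 := by
  simp only [Tri.n1, H_add_left, H_add_right D.hF, H_smul_left, H_smul_right, T.H11, T.H22, T.H12, T.H21,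
    hi.neg.iq, mul_zero, add_zero, zero_add]
  linear_combination -hi.sq

theorem Hn3 : H (T.n1 i) T.u3 = 0 := by
  simp only [Tri.n1, H_add_left, H_smul_left, T.H13, T.H23, mul_zero, add_zero]

theorem H3n : H T.u3 (T.n1 i) = 0 := by
  simp only [Tri.n1, H_add_right D.hF, H_smul_right, T.H31, T.H32, mul_zero, add_zero]

theorem n_ne : T.n1 i ≠ 0 := fun h => by
  have h1 := congrArg (fun v => H v T.u1) h
  simp only [Tri.n1, H_add_left, H_smul_left, T.H11, T.H21, H_zero_left, mul_zero, add_zero] at h1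
  exact T.d1_ne h1

/-- expansion in the hyperbolic basis -/
theorem expand (x : Vec) : x = (H x (T.n1 (-i)) / (2 * T.d1)) • T.n1 i +
    (H x (T.n1 i) / (2 * T.d1)) • T.n1 (-i) + (H x T.u3 / T.d3) • T.u3 := by
  have h2 := two_ne D
  have := T.d1_ne
  have := T.d2_ne
  have := T.d3_ne
  have := hi.ne
  have e1 : ∀ j : F, j ^ q = j → H x (T.n1 j) = H x T.u1 + j * H x T.u2 := fun j hj => by
    rw [Tri.n1, H_add_right D.hF, H_smul_right, hj]
  conv_lhs => rw [T.expand x]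
  rw [e1 i hi.iq, e1 (-i) hi.neg.iq, Tri.n1, Tri.n1,
    show T.d2 = -T.d1 / (i * i) by rw [eq_div_iff (mul_ne_zero hi.ne hi.ne)]; linear_combination hi.sq]
  match_scalars <;> field_simp <;> ring

end SplitAt

theorem Ov.axis_preserved' {M : Subgroup (GL (Fin 3) F)} (C : Ov D M) {T : Tri D} {x : GLn} (hx : x ∈ M) {l : F} (hl : (x : Mat) *ᵥ T.u3 = l • T.u3) {y : Vec}
    (hy : H y T.u3 = 0) : H ((x : Mat) *ᵥ y) T.u3 = 0 := by
  have h := C.map_H hx y T.u3
  rw [hl, H_smul_right, hy] at h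
  refine (mul_eq_zero.1 h).resolve_left (pow_ne_zero _ fun h0 => ?_)
  refine Max.mulVec_ne_zero x (x := T.u3) (fun e => T.d3_ne ?_) (by rw [hl, h0, zero_smul])
  rw [← T.H33, e, H_zero_left]

variable {M : Subgroup (GL (Fin 3) F)} (C : Ov D M) (hN : NoRoot D M) {T : Tri D} {i : F} (hi : SplitAt T i)
include C hN hi

/-- the rational Siegel element -/
theorem Ov.siegel (t : D.F₀) : Sg0 q M (T.n1 i) ((t : F) • T.u3) := by
  obtain ⟨a, ha⟩ := hi.rat
  have h1 : BF D a a = 0 := Subtype.ext (by rw [← hB, ha, hi.Hnn]; rfl)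
  have h2 : BF D (t • T.f3) a = 0 := Subtype.ext (by
    rw [← hB, ha, rv_smul]
    show H ((t : F) • T.u3) (T.n1 i) = _
    rw [H_smul_left, hi.H3n, mul_zero]
    rfl)
  have := C.ctx.sg h1 h2
  rwa [ha, rv_smul] at this

theorem Ov.noRoot_n {c : F} (hc : c + c ^ q = 0) (h : InM q M (T.n1 i) c) : c = 0 := by
  obtain ⟨a, ha⟩ := hi.rat
  refine hN a c (fun e => hi.n_ne (by rw [← ha, e, rv_zero])) (Subtype.ext ?_) hc (ha ▸ h)
  rw [← hB, ha, hi.Hnn]; rfl

/-- the shape of an element fixing the singular vector -/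
theorem Ov.fix_shape {x : GLn} (hx : x ∈ M) (hxa : (x : Mat) *ᵥ T.n1 i = T.n1 i) :
    ∃ t : D.F₀, (x : Mat) *ᵥ T.u3 = T.u3 + (t : F) • T.n1 i ∧ (t = 0 → x = 1) := by
  have hF := D.hF
  have h2 := two_ne D
  have hd1 := T.d1_ne
  have hd3 := T.d3_ne
  set a := T.n1 i with ha
  set b := T.n1 (-i) with hb
  have hab : H a b = 2 * T.d1 := hi.Hnn'
  have hba : H b a = 2 * T.d1 := by
    have := hi.neg.Hnn'
    rwa [neg_neg] at this
  have haa : H a a = 0 := hi.Hnn
  have hbb : H b b = 0 := hi.neg.Hnn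
  have ha3 : H a T.u3 = 0 := hi.Hn3
  have hb3 : H b T.u3 = 0 := hi.neg.Hn3
  have h3a : H T.u3 a = 0 := hi.H3n
  have h3b : H T.u3 b = 0 := hi.neg.H3n
  have e3 := hi.expand ((x : Mat) *ᵥ T.u3)
  rw [show H ((x : Mat) *ᵥ T.u3) a = 0 by rw [← hxa, C.map_H hx, h3a], zero_div, zero_smul, add_zero] at e3
  set φ := H ((x : Mat) *ᵥ T.u3) b / (2 * T.d1)
  set l := H ((x : Mat) *ᵥ T.u3) T.u3 / T.d3
  have eb := hi.expand ((x : Mat) *ᵥ b)
  rw [show H ((x : Mat) *ᵥ b) a = 2 * T.d1 by rw [← hxa, C.map_H hx, hba],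
    div_self (mul_ne_zero h2 hd1), one_smul] at eb
  set τ := H ((x : Mat) *ᵥ b) b / (2 * T.d1)
  set ν := H ((x : Mat) *ᵥ b) T.u3 / T.d3
  rw [← ha, ← hb] at eb
  rw [← ha] at e3
  -- the axis coefficient is one
  have hl : l = 1 := by
    have hne := hi.ne
    have e1 : (2 : F) • T.u1 = a + b := by rw [ha, hb, Tri.n1, Tri.n1]; module
    have e2 : (2 * i) • T.u2 = a - b := by rw [ha, hb, Tri.n1, Tri.n1]; module
    have hdet := T.det_eq (A := (x : Mat))
      (c := !![(2 + τ) / 2, -τ / (2 * i), φ; i * τ / 2, (2 - τ) / 2, i * φ; ν / 2, -ν / (2 * i), l]) (by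
        refine smul_right_injective Vec h2 ?_
        show (2 : F) • _ = (2 : F) • _
        rw [← mulVec_smul, e1, mulVec_add, hxa, eb, ha, hb, Tri.n1, Tri.n1]
        simp
        match_scalars <;> field_simp <;> ring) (by
        refine smul_right_injective Vec (mul_ne_zero h2 hne) ?_
        show (2 * i) • _ = (2 * i) • _
        rw [← mulVec_smul, e2, mulVec_sub, hxa, eb, ha, hb, Tri.n1, Tri.n1]
        simp
        match_scalars <;> field_simp <;> ring) (by
        rw [e3, ha, Tri.n1]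
        simp
        module)
    rw [C.det hx, Matrix.det_fin_three] at hdet
    simp at hdet
    field_simp at hdet
    refine mul_left_cancel₀ (mul_ne_zero h2 h2) ?_
    linear_combination -hdet
  rw [hl, one_smul] at e3
  -- the translation is rational
  have hφ : φ ∈ D.F₀ := by
    rw [fix_iff]
    obtain ⟨-, s, hs, hsx⟩ := C.siegel hN hi 1
    have h1 := OrthInUnitary.sg0_map hF (hi.Hnn) C.hMK (C.siegel hN hi 1) hx
    rw [← ha] at h1 hsx
    rw [hxa] at h1
    simp only [OneMemClass.coe_one, one_smul] at h1 hsx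
    rw [e3] at h1
    obtain ⟨-, s', hs', hsx'⟩ := h1
    have hsk : φ - φ ^ q + (φ - φ ^ q) ^ q = 0 := by
      rw [← HermStd.qHom_apply hF (φ - φ ^ q), map_sub, HermStd.qHom_apply, HermStd.qHom_apply, pow_qq hF]; ring
    refine (sub_eq_zero.1 (C.noRoot_n hN hi hsk (inM_of (mul_mem hs' (inv_mem hs)) fun z => ?_))).symm
    obtain ⟨y, rfl⟩ : ∃ y, (s : Mat) *ᵥ y = z := ⟨_, Max.mulVec_inv_cancel s z⟩
    rw [Max.mulVec_mul_GL, Max.inv_mulVec_cancel, hsx', hsx]
    simp only [H_add_left, H_add_right hF, H_smul_left, H_smul_right, haa, ha3, h3a, T.H33, mul_zero, add_zero,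
      zero_add, ← ha]
    match_scalars <;> field_simp <;> ring
  refine ⟨⟨φ, hφ⟩, by rw [e3]; exact add_comm _ _, fun ht => ?_⟩
  have hφ0 : φ = 0 := congrArg Subtype.val ht
  rw [hφ0, zero_smul, zero_add] at e3
  have hν : H ((x : Mat) *ᵥ b) T.u3 = 0 := by
    rw [← e3, C.map_H hx, hb3]
  rw [show ν = 0 by show _ / _ = (0 : F); rw [hν, zero_div], zero_smul, add_zero] at eb
  have hτs : τ + τ ^ q = 0 := by
    have h := C.map_H hx b b
    rw [eb] at h
    simp only [H_add_left, H_add_right hF, H_smul_left, H_smul_right, haa, hbb, hab, hba, mul_zero, add_zero,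
      zero_add] at h
    refine (mul_eq_zero.1 (show (τ + τ ^ q) * (2 * T.d1) = 0 by linear_combination h)).resolve_right
      (mul_ne_zero h2 hd1)
  have h2q : (2 : F) ^ q = 2 := by rw [← HermStd.qHom_apply hF, map_ofNat]
  have hc : τ / (2 * T.d1) + (τ / (2 * T.d1)) ^ q = 0 := by
    rw [div_pow, mul_pow, h2q, T.d1_q, ← add_div, hτs, zero_div]
  have hx' : ∀ z, (x : Mat) *ᵥ z = z + (τ / (2 * T.d1) * H z a) • a := fun z => by
    have ez := hi.expand z
    rw [← ha, ← hb] at ez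
    conv_lhs => rw [ez, mulVec_add, mulVec_add, mulVec_smul, mulVec_smul, mulVec_smul, hxa, eb, e3]
    conv_rhs => lhs; rw [ez]
    match_scalars <;> field_simp <;> ring
  have hτ := C.noRoot_n hN hi hc (ha ▸ inM_of hx hx')
  refine Max.gl_ext fun z => ?_
  rw [hx', hτ, zero_mul, zero_smul, add_zero, Units.val_one, one_mulVec]

/-- elements fixing the singular vector have order dividing the characteristic -/
theorem Ov.fix_pow {p : ℕ} [CharP F p] {x : GLn} (hx : x ∈ M) (hxa : (x : Mat) *ᵥ T.n1 i = T.n1 i) :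
    x ^ p = 1 := by
  obtain ⟨t, ht, -⟩ := C.fix_shape hN hi hx hxa
  have key : ∀ n : ℕ, ((x ^ n : GLn) : Mat) *ᵥ T.n1 i = T.n1 i ∧
      ((x ^ n : GLn) : Mat) *ᵥ T.u3 = T.u3 + ((n : F) * t) • T.n1 i := by
    intro n
    induction n with
    | zero => simp
    | succ n ih =>
      rw [pow_succ', Max.mulVec_mul_GL, Max.mulVec_mul_GL, ih.1, ih.2, mulVec_add, mulVec_smul, hxa, ht]
      exact ⟨rfl, by push_cast; module⟩
  obtain ⟨t', ht', h1⟩ := C.fix_shape hN hi (pow_mem hx p) (key p).1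
  refine h1 (Subtype.ext ?_)
  rw [(key p).2, CharP.cast_eq_zero, zero_mul, zero_smul, add_zero, left_eq_add] at ht'
  exact (smul_eq_zero.1 ht').resolve_right hi.n_ne

/-- a non-trivial element fixing the singular vector fixes no other line -/
theorem Ov.fix_unique {x : GLn} (hx : x ∈ M) (hxa : (x : Mat) *ᵥ T.n1 i = T.n1 i) (hx1 : x ≠ 1) {z : Vec}
    (hz : (x : Mat) *ᵥ z = z) : ∃ r : F, z = r • T.n1 i := by
  have hF := D.hF
  obtain ⟨t, ht, h1⟩ := C.fix_shape hN hi hx hxa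
  have ht0 : (t : F) ≠ 0 := fun h => hx1 (h1 (Subtype.ext h))
  have hz' := C.map_H hx z T.u3
  rw [hz, ht, H_add_right hF, H_smul_right, pow_q_coe] at hz'
  have hza : H z (T.n1 i) = 0 := (mul_eq_zero.1 (add_eq_left.1 hz')).resolve_left ht0
  have ez := hi.expand z
  rw [hza, zero_div, zero_smul, add_zero] at ez
  have h := congrArg (fun v => (x : Mat) *ᵥ v) ez
  simp only [hz, mulVec_add, mulVec_smul, hxa, ht, smul_add, smul_smul] at h
  conv_lhs at h => rw [ez]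
  rw [← add_assoc, left_eq_add, smul_eq_zero] at h
  have h3 := ((mul_eq_zero.1 (h.resolve_right hi.n_ne)).resolve_right ht0)
  rw [h3, zero_smul, add_zero] at ez
  exact ⟨_, ez⟩

/-- no transvection at all -/
theorem Ov.no_tv {p : ℕ} [Fact p.Prime] [CharP F p] {u : Vec} (hu : H u u = 0) (hu0 : u ≠ 0) {c : F}
    (hc : c + c ^ q = 0) (h : InM q M u c) : c = 0 := by
  classical
  have hF := D.hF
  obtain ⟨t, ht, htx⟩ := exists_tvM hF hu hc h
  let Q : Subgroup M :=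
    { carrier := {x | ((x : GLn) : Mat) *ᵥ T.n1 i = T.n1 i}
      one_mem' := by simp
      mul_mem' := fun {a b} ha hb => by
        show ((a : GLn) * (b : GLn) : GLn).1 *ᵥ _ = _
        rw [Units.val_mul, ← mulVec_mulVec, hb, ha]
      inv_mem' := fun {a} ha => Max.mulVec_inj (a : GLn) (by
        show _ = ((a : GLn) : Mat) *ᵥ T.n1 i
        rw [InvMemClass.coe_inv, Max.mulVec_inv_cancel, ha]) }
  have hQ : IsPGroup p Q := fun x => ⟨1, Subtype.ext (Subtype.ext (by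
    simpa using C.fix_pow hN hi (p := p) x.1.2 x.2))⟩
  obtain ⟨P, hP⟩ := hQ.exists_le_sylow
  obtain ⟨-, s, hs, hsx⟩ := C.siegel hN hi 1
  have hsa : (s : Mat) *ᵥ T.n1 i = T.n1 i := by
    rw [hsx]
    simp [hi.Hnn, H_smul_right, hi.Hn3]
  have hs1 : s ≠ 1 := fun e => by
    have h1 := hsx T.u3
    rw [e, Units.val_one, one_mulVec] at h1
    simp [hi.H3n, H_smul_right, T.H33, T.d3_ne, hi.n_ne] at h1
  have hsQ : (⟨s, hs⟩ : M) ∈ Q := hsa
  -- a central element of the Sylow subgroup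
  have hfix : ∀ y : M, y ∈ (P : Subgroup M) → ∀ w : M, w ∈ Q → (w : GLn) ≠ 1 → y * w = w * y → y ∈ Q := by
    intro y hy w hw hw1 hcomm
    have hw' : ((w : GLn) : Mat) *ᵥ (((y : GLn) : Mat) *ᵥ T.n1 i) = ((y : GLn) : Mat) *ᵥ T.n1 i := by
      rw [← Max.mulVec_mul_GL, ← Subgroup.coe_mul, ← hcomm, Subgroup.coe_mul, Max.mulVec_mul_GL, hw]
    obtain ⟨r, hr⟩ := C.fix_unique hN hi w.2 hw hw1 hw'
    obtain ⟨k, hk⟩ := P.2 ⟨y, hy⟩
    have hk' : (y : GLn) ^ p ^ k = 1 := by simpa using congrArg (fun z : (P : Subgroup M) => ((z : M) : GLn)) hk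
    have hpow : ∀ n : ℕ, (((y : GLn) ^ n : GLn) : Mat) *ᵥ T.n1 i = r ^ n • T.n1 i := by
      intro n
      induction n with
      | zero => simp
      | succ n ih => rw [pow_succ', Max.mulVec_mul_GL, ih, mulVec_smul, hr, smul_smul, pow_succ]
    have h1 := hpow (p ^ k)
    rw [hk', Units.val_one, one_mulVec] at h1
    have h2 : r ^ p ^ k = 1 :=
      smul_left_injective F hi.n_ne (show r ^ p ^ k • T.n1 i = (1 : F) • T.n1 i by rw [one_smul, ← h1])
    have h3 := (ExpChar.pow_prime_pow_mul_eq_one_iff p k 1 r).1 (by rw [mul_one]; exact h2)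
    show ((y : GLn) : Mat) *ᵥ T.n1 i = T.n1 i
    rw [hr, show r = 1 by simpa using h3, one_smul]
  haveI : Nontrivial (P : Subgroup M) :=
    ⟨⟨⟨_, hP hsQ⟩, 1, fun e => hs1 (congrArg (fun z : (P : Subgroup M) => ((z : M) : GLn)) e)⟩⟩
  haveI := P.2.center_nontrivial
  obtain ⟨⟨z, hz⟩, hz1⟩ := exists_ne (1 : Subgroup.center (P : Subgroup M))
  rw [Subgroup.mem_center_iff] at hz
  have hzQ : (z : M) ∈ Q := hfix z z.2 _ hsQ hs1 (congrArg Subtype.val (hz ⟨_, hP hsQ⟩)).symm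
  have hz1' : ((z : M) : GLn) ≠ 1 := fun e => hz1 (Subtype.ext (Subtype.ext (Subtype.ext e)))
  have hPQ : (P : Subgroup M) ≤ Q := fun y hy => hfix y hy _ hzQ hz1' (congrArg Subtype.val (hz ⟨y, hy⟩))
  -- move the transvection into it
  have hp : IsPGroup p (Subgroup.zpowers (⟨t, ht⟩ : M)) := by
    have hpow : ∀ n : ℕ, ∀ x, ((t ^ n : GLn) : Mat) *ᵥ x = x + ((n : F) * c * H x u) • u := by
      intro n
      induction n with
      | zero => simp
      | succ n ih =>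
        intro x
        rw [pow_succ', Max.mulVec_mul_GL, ih, htx]
        simp only [H_add_left, H_smul_left, hu, mul_zero, add_zero]
        push_cast
        module
    have htp : (⟨t, ht⟩ : M) ^ p = 1 := Subtype.ext (Max.gl_ext fun x => by
      show ((t ^ p : GLn) : Mat) *ᵥ x = _
      rw [hpow, CharP.cast_eq_zero, zero_mul, zero_mul, zero_smul, add_zero]
      simp)
    rintro ⟨x, m, rfl⟩
    refine ⟨1, Subtype.ext ?_⟩
    show ((⟨t, ht⟩ : M) ^ m) ^ p ^ 1 = 1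
    rw [pow_one, ← zpow_natCast, ← _root_.zpow_mul, mul_comm, _root_.zpow_mul, zpow_natCast, htp, _root_.one_zpow]
  obtain ⟨P', hP'⟩ := hp.exists_le_sylow
  obtain ⟨g, hg⟩ := MulAction.exists_smul_eq M P' P
  have hmem : g * ⟨t, ht⟩ * g⁻¹ ∈ Q := hPQ (by
    rw [← hg]
    exact ⟨_, hP' (Subgroup.mem_zpowers _), rfl⟩)
  set u' := ((g : GLn) : Mat) *ᵥ u
  have hu' : H u' u' = 0 := by rw [C.map_H g.2, hu]
  have ht'x : ∀ x, (((g : GLn) * t * (g : GLn)⁻¹ : GLn) : Mat) *ᵥ x = x + (c * H x u') • u' := fun x => by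
    obtain ⟨y, rfl⟩ : ∃ y, ((g : GLn) : Mat) *ᵥ y = x := ⟨_, Max.mulVec_inv_cancel (g : GLn) x⟩
    rw [Max.mulVec_mul_GL, Max.inv_mulVec_cancel, Max.mulVec_mul_GL, htx, mulVec_add, mulVec_smul, C.map_H g.2]
  by_contra hc0
  have hu'0 : u' ≠ 0 := Max.mulVec_ne_zero _ hu0
  have e1 : (((g : GLn) * t * (g : GLn)⁻¹ : GLn) : Mat) *ᵥ T.n1 i = T.n1 i := hmem
  rw [ht'x, add_eq_left, smul_eq_zero, mul_eq_zero] at e1
  have hau : H u' (T.n1 i) = 0 := (H_eq_zero_comm hF).1 ((e1.resolve_right hu'0).resolve_left hc0)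
  have eu := hi.expand u'
  rw [hau, zero_div, zero_smul, add_zero] at eu
  set α := H u' (T.n1 (-i)) / (2 * T.d1)
  have hm : H u' T.u3 / T.d3 = 0 := by
    have h1 := hu'
    rw [eu] at h1
    simp only [H_add_left, H_add_right hF, H_smul_left, H_smul_right, hi.Hnn, hi.Hn3, hi.H3n, T.H33, mul_zero,
      add_zero, zero_add] at h1
    rcases mul_eq_zero.1 h1 with h2 | h2
    · exact (pow_eq_zero_iff (q_ne_zero hF)).1 h2
    · exact (mul_eq_zero.1 h2).resolve_right T.d3_ne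
  rw [hm, zero_smul, add_zero] at eu
  have hα : α ≠ 0 := fun e => hu'0 (by rw [eu, e, zero_smul])
  have h1 : InM q M (T.n1 i) (c * (α ^ q * α)) := inM_of (Subtype.mem (g * ⟨t, ht⟩ * g⁻¹)) fun x => by
    rw [show (((g * ⟨t, ht⟩ * g⁻¹ : M)) : GLn) = (g : GLn) * t * (g : GLn)⁻¹ from rfl, ht'x, eu, H_smul_right,
      smul_smul]
    congr 2
    ring
  have h3 := C.noRoot_n hN hi (by rw [mul_pow, mul_pow, pow_qq hF]; linear_combination (α ^ q * α) * hc) h1
  exact mul_ne_zero hc0 (mul_ne_zero (pow_ne_zero _ hα) hα) h3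

omit C hN hi in
/-- diagonal data of an element fixing two singular lines and the axis -/
def Diag (T : Tri D) (i : F) (x : GLn) (μ l : F) : Prop :=
  μ ∈ D.F₀ ∧ μ ≠ 0 ∧ l ^ 3 = 1 ∧ (x : Mat) *ᵥ T.n1 i = (l * μ) • T.n1 i ∧
    (x : Mat) *ᵥ T.n1 (-i) = (l / μ) • T.n1 (-i) ∧ (x : Mat) *ᵥ T.u3 = l • T.u3

/-- elements fixing both singular lines are rational -/
theorem Ov.diag {x : GLn} (hx : x ∈ M) {α β l : F} (hα : (x : Mat) *ᵥ T.n1 i = α • T.n1 i)
    (hβ : (x : Mat) *ᵥ T.n1 (-i) = β • T.n1 (-i)) (hl : (x : Mat) *ᵥ T.u3 = l • T.u3) :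
    x ∈ G0 D ∧ ∃ μ, Diag T i x μ l := by
  have hF := D.hF
  have h2 := two_ne D
  have hd1 := T.d1_ne
  have hd3 := T.d3_ne
  have hne := hi.ne
  have hdet : α * β * l = 1 := by rw [← T.det_diag hne hα hβ hl, C.det hx]
  have hll : l * l ^ q = 1 := by
    have h := C.map_H hx T.u3 T.u3
    rw [hl, H_smul_left, H_smul_right, T.H33] at h
    exact mul_right_cancel₀ hd3 (by linear_combination h)
  have hαβ : α ^ q * β = 1 := by
    have h := C.map_H hx (T.n1 (-i)) (T.n1 i)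
    have e : H (T.n1 (-i)) (T.n1 i) = 2 * T.d1 := by
      have := hi.neg.Hnn'
      rwa [neg_neg] at this
    rw [hα, hβ, H_smul_left, H_smul_right, e] at h
    exact mul_right_cancel₀ (mul_ne_zero h2 hd1) (by linear_combination h)
  set μ := α ^ q * l with hμdef
  have hμq' : μ ^ q = α * l ^ q := by rw [hμdef, mul_pow, pow_qq hF]
  have hμ : μ ∈ D.F₀ := by
    rw [fix_iff]
    obtain ⟨-, s, hs, hsx⟩ := C.siegel hN hi 1
    obtain ⟨-, s', hs', hsx'⟩ := OrthInUnitary.sg0_map hF hi.Hnn C.hMK (C.siegel hN hi 1) hx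
    simp only [OneMemClass.coe_one, one_smul, hα, hl] at hsx hsx'
    have hS : Sg0 q M (T.n1 i) T.u3 := ⟨hi.H3n, s, hs, hsx⟩
    have hS' : Sg0 q M (T.n1 i) (μ • T.u3) := by
      refine ⟨by rw [H_smul_left, hi.H3n, mul_zero], s', hs', fun z => ?_⟩
      rw [hsx']
      simp only [H_smul_left, H_smul_right, T.H33, hμq']
      rw [hμdef]
      match_scalars <;> field_simp <;> ring
    have hd : H T.u3 (μ • T.u3) - H (μ • T.u3) T.u3 = (μ ^ q - μ) * T.d3 := by
      rw [H_smul_left, H_smul_right, T.H33]; ring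
    have h := OrthInUnitary.sg0_comm hF hi.Hnn hS hS'
    rw [hd] at h
    have hsk : (μ ^ q - μ) * T.d3 + ((μ ^ q - μ) * T.d3) ^ q = 0 := by
      rw [mul_pow (μ ^ q - μ) T.d3 q, T.d3_q, ← HermStd.qHom_apply hF (μ ^ q - μ), map_sub, HermStd.qHom_apply, HermStd.qHom_apply,
        pow_qq hF]
      ring
    exact sub_eq_zero.1 ((mul_eq_zero.1 (C.noRoot_n hN hi hsk h)).resolve_right hd3)
  have hμq := (fix_iff D μ).1 hμ
  have hα' : α = l * μ := by
    rw [← hμq, hμq']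
    linear_combination (-α) * hll
  have hμ0 : μ ≠ 0 := fun h => by
    rw [h, mul_zero] at hα'
    rw [hα', zero_pow (q_ne_zero hF), zero_mul] at hαβ
    exact zero_ne_one hαβ
  have hβ' : β = l / μ := by
    rw [eq_div_iff hμ0, hμdef]
    linear_combination l * hαβ
  have hl0 : l ≠ 0 := fun h => by rw [h, zero_mul] at hll; exact zero_ne_one hll
  have hl3 : l ^ 3 = 1 := by
    rw [hα', hβ'] at hdet
    field_simp at hdet
    linear_combination hdet
  rw [hα'] at hα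
  rw [hβ'] at hβ
  refine ⟨T.mem_of_images x (k := l⁻¹) (inv_ne_zero hl0)
    (b1 := ((⟨μ, hμ⟩ + (⟨μ, hμ⟩ : D.F₀)⁻¹) / 2) • T.f1 +
      ((⟨i, hi.mem⟩ : D.F₀) * (⟨μ, hμ⟩ - (⟨μ, hμ⟩ : D.F₀)⁻¹) / 2) • T.f2)
    (b2 := ((⟨μ, hμ⟩ - (⟨μ, hμ⟩ : D.F₀)⁻¹) / (2 * ⟨i, hi.mem⟩)) • T.f1 +
      ((⟨μ, hμ⟩ + (⟨μ, hμ⟩ : D.F₀)⁻¹) / 2) • T.f2) (b3 := T.f3) ?_ ?_ ?_, μ, hμ, hμ0, hl3, hα, hβ, hl⟩
  · have e1 : (2 : F) • T.u1 = T.n1 i + T.n1 (-i) := by rw [Tri.n1, Tri.n1]; module
    refine smul_right_injective Vec h2 ?_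
    show (2 : F) • _ = (2 : F) • _
    rw [smul_comm, ← mulVec_smul, e1, mulVec_add, hα, hβ, rv_add, rv_smul, rv_smul,
      show rv D T.f1 = T.u1 from rfl, show rv D T.f2 = T.u2 from rfl]
    simp only [Tri.n1]
    push_cast
    rw [show ((2 : D.F₀) : F) = 2 from map_ofNat D.F₀.subtype 2]
    match_scalars <;> field_simp <;> ring
  · have e2 : (2 * i) • T.u2 = T.n1 i - T.n1 (-i) := by rw [Tri.n1, Tri.n1]; module
    refine smul_right_injective Vec (mul_ne_zero h2 hne) ?_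
    show (2 * i) • _ = (2 * i) • _
    rw [smul_comm, ← mulVec_smul, e2, mulVec_sub, hα, hβ, rv_add, rv_smul, rv_smul,
      show rv D T.f1 = T.u1 from rfl, show rv D T.f2 = T.u2 from rfl]
    simp only [Tri.n1]
    push_cast
    rw [show ((2 : D.F₀) : F) = 2 from map_ofNat D.F₀.subtype 2]
    match_scalars <;> field_simp <;> ring
  · rw [hl, smul_smul, inv_mul_cancel₀ hl0, one_smul]; rfl

end Cfsg.Agent.Forms.Max.SU3.Orth
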