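import Mathlib
import Cfsg.Agent.Lib.Forms.Max.SU3.Orth.Unip
import Cfsg.Agent.Lib.Forms.Max.SU3.Orth.Abstract
import Cfsg.Agent.Lib.Forms.Max.SU3.Plane

/-!
# Stabilisers of rational anisotropic points in overgroups without transvections
-/

set_option autoImplicit false
set_option linter.unusedSectionVars false

namespace Cfsg.Agent.Forms.Max.SU3.Orth

open Matrix Cfsg.Agent.Classical Cfsg.Agent.Classical.Unitary
open Cfsg.Agent.SimpleFacts.MinIndexPSUThree Cfsg.Agent.SimpleFacts.MinIndexPSUThree.Borel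
open Cfsg.Agent.SimpleFacts.MinIndexPSUThree.Plane
open SubfieldUnitary (InM inM_of)
open SU4.Orth (Data rv rv_add rv_smul rv_sub rv_neg rv_zero rv_eq_zero fix_iff pow_q_coe hrat hB refl' hH0 dual
  two_ne two_ne')

universe u

variable {F : Type u} [Field F] [Fintype F] {q : ℕ}

local notation "Idx" => (Fin 3)
local notation "Vec" => (Fin 3 → F)
local notation "Mat" => Matrix (Fin 3) (Fin 3) F
local notation "GLn" => GL (Fin 3) F
local notation "H" => Cfsg.hermForm 3 F q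
local notation "BF" => SU4.Orth.B
local notation "PG" => Matrix.ProjectiveSpecialLinearGroup (Fin 2) F

variable {D : Data F q 3}

theorem mulVec_inv_eq {g : GLn} {v w : Vec} (h : (g : Mat) *ᵥ v = w) : ((g⁻¹ : GLn) : Mat) *ᵥ w = v := by
  rw [← h, Max.inv_mulVec_cancel]

theorem mulVec_inv_smul {g : GLn} {v : Vec} {c : F} (hv : v ≠ 0) (h : (g : Mat) *ᵥ v = c • v) :
    ((g⁻¹ : GLn) : Mat) *ᵥ v = c⁻¹ • v := by
  have hc : c ≠ 0 := fun e => Max.mulVec_ne_zero g hv (by rw [h, e, zero_smul])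
  refine mulVec_inv_eq ?_
  rw [mulVec_smul, h, smul_smul, inv_mul_cancel₀ hc, one_smul]

namespace Tri

variable (T : Tri D)

theorem u3_ne : T.u3 ≠ 0 := fun h => T.d3_ne (by rw [← T.H33, h, H_zero_left])

theorem u1_ne : T.u1 ≠ 0 := fun h => T.d1_ne (by rw [← T.H11, h, H_zero_left])

theorem n3 (j : F) : H (T.n1 j) T.u3 = 0 := by
  simp only [n1, H_add_left, H_smul_left, T.H13, T.H23, mul_zero, add_zero]

theorem n_ne (j : F) : T.n1 j ≠ 0 := fun h => by
  have h1 := congrArg (fun v => H v T.u1) h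
  simp only [n1, H_add_left, H_smul_left, T.H11, T.H21, H_zero_left, mul_zero, add_zero] at h1
  exact T.d1_ne h1

theorem n_indep {i p r : F} (hi : i ≠ 0) (h : p • T.n1 i + r • T.n1 (-i) = 0) : p = 0 ∧ r = 0 := by
  have h1 := congrArg (fun v => H v T.u1) h
  have h2 := congrArg (fun v => H v T.u2) h
  simp only [n1, H_add_left, H_smul_left, T.H11, T.H21, T.H12, T.H22, H_zero_left, mul_zero, add_zero,
    zero_add] at h1 h2
  have e1 : p + r = 0 := (mul_eq_zero.1 (show (p + r) * T.d1 = 0 by linear_combination h1)).resolve_right T.d1_ne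
  have e2 : p - r = 0 :=
    (mul_eq_zero.1 (show (p - r) * (i * T.d2) = 0 by linear_combination h2)).resolve_right (mul_ne_zero hi T.d2_ne)
  have := two_ne D
  constructor
  · exact (mul_eq_zero.1 (show (2 : F) * p = 0 by linear_combination e1 + e2)).resolve_left this
  · exact (mul_eq_zero.1 (show (2 : F) * r = 0 by linear_combination e1 - e2)).resolve_left this

theorem plane_expand {i : F} (hi : i ≠ 0) {v : Vec} (hv : H v T.u3 = 0) :
    ∃ p r : F, v = p • T.n1 i + r • T.n1 (-i) := by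
  refine ⟨(H v T.u1 / T.d1 + H v T.u2 / T.d2 / i) / 2, (H v T.u1 / T.d1 - H v T.u2 / T.d2 / i) / 2, ?_⟩
  have := two_ne D
  conv_lhs => rw [T.expand v, hv, zero_div, zero_smul, add_zero]
  rw [n1, n1]
  match_scalars <;> field_simp <;> ring

/-- a frame of the unitary space with the axis of the rational frame -/
theorem exists_frame_axis : ∃ (B : Frame F q) (k : F), k ≠ 0 ∧ B.w = k • T.u3 := by
  have hF := D.hF
  obtain ⟨k, hk⟩ := Unitary.exists_norm hF (d := T.d3⁻¹) (by rw [inv_pow, T.d3_q])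
  have hw : H (k • T.u3) (k • T.u3) = 1 := by
    rw [H_smul_left, H_smul_right, T.H33, ← mul_assoc, mul_comm k, hk, inv_mul_cancel₀ T.d3_ne]
  obtain ⟨B, hB⟩ := exists_frame_unit hF hw
  exact ⟨B, k, fun h => inv_ne_zero T.d3_ne (by rw [← hk, h, mul_zero]), hB⟩

end Tri

theorem exists_order {N : ℕ} (hN : N ∣ Fintype.card F - 1) : ∃ α : F, α ≠ 0 ∧ orderOf α = N := by
  classical
  obtain ⟨g, hg⟩ := IsCyclic.exists_ofOrder_eq_natCard (α := Fˣ)
  have hc : Nat.card Fˣ = Fintype.card F - 1 := by rw [Nat.card_eq_fintype_card, Fintype.card_units]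
  obtain ⟨m, hm⟩ := hN
  rw [hc, hm] at hg
  have hm0 : m ≠ 0 := fun h => by
    rw [h, mul_zero] at hm
    have := Fintype.one_lt_card (α := F)
    omega
  refine ⟨((g ^ m : Fˣ) : F), Units.ne_zero _, ?_⟩
  rw [orderOf_units, orderOf_pow' g hm0, hg, Nat.gcd_eq_right (dvd_mul_left m N),
    Nat.mul_div_cancel _ (Nat.pos_of_ne_zero hm0)]

/-- plane scalar elements -/
def PS (T : Tri D) (x : GLn) : Prop :=
  ∃ r : F, (x : Mat) *ᵥ T.u1 = r • T.u1 ∧ (x : Mat) *ᵥ T.u2 = r • T.u2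

theorem PS.n {T : Tri D} {x : GLn} (h : PS T x) : ∃ r : F, ∀ j, (x : Mat) *ᵥ T.n1 j = r • T.n1 j := by
  obtain ⟨r, h1, h2⟩ := h
  exact ⟨r, fun j => by rw [Tri.n1, mulVec_add, mulVec_smul, h1, h2, smul_add, smul_comm]⟩

theorem PS.mk_n {T : Tri D} {x : GLn} {i r : F} (hi : i ≠ 0) (h1 : (x : Mat) *ᵥ T.n1 i = r • T.n1 i)
    (h2 : (x : Mat) *ᵥ T.n1 (-i) = r • T.n1 (-i)) : PS T x := by
  have := two_ne D
  have key : ∀ p p' : F, (x : Mat) *ᵥ (p • T.n1 i + p' • T.n1 (-i)) = r • (p • T.n1 i + p' • T.n1 (-i)) :=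
    fun p p' => by rw [mulVec_add, mulVec_smul, mulVec_smul, h1, h2, smul_add, smul_comm r p, smul_comm r p']
  obtain ⟨a, a', ha⟩ := T.plane_expand hi T.H13
  obtain ⟨b, b', hb⟩ := T.plane_expand hi T.H23
  exact ⟨r, by rw [ha]; exact key a a', by rw [hb]; exact key b b'⟩

/-- monomial elements -/
def Mono (T : Tri D) (i : F) (x : GLn) : Prop :=
  ∃ a b : F, ((x : Mat) *ᵥ T.n1 i = a • T.n1 i ∧ (x : Mat) *ᵥ T.n1 (-i) = b • T.n1 (-i)) ∨
    ((x : Mat) *ᵥ T.n1 i = a • T.n1 (-i) ∧ (x : Mat) *ᵥ T.n1 (-i) = b • T.n1 i)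

/-- the stabiliser of the axis -/
def St (T : Tri D) (M : Subgroup (GL (Fin 3) F)) : Subgroup (GL (Fin 3) F) where
  carrier := {x | x ∈ M ∧ ∃ l : F, (x : Mat) *ᵥ T.u3 = l • T.u3}
  one_mem' := ⟨one_mem M, 1, by rw [Units.val_one, one_mulVec, one_smul]⟩
  mul_mem' := by
    rintro x y ⟨hx, l, hl⟩ ⟨hy, m, hm⟩
    exact ⟨mul_mem hx hy, m * l, by rw [Max.mulVec_mul_GL, hm, mulVec_smul, hl, smul_smul]⟩
  inv_mem' := by
    rintro x ⟨hx, l, hl⟩
    exact ⟨inv_mem hx, l⁻¹, mulVec_inv_smul T.u3_ne hl⟩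

theorem mem_St {T : Tri D} {M : Subgroup (GL (Fin 3) F)} {x : GLn} :
    x ∈ St T M ↔ x ∈ M ∧ ∃ l : F, (x : Mat) *ᵥ T.u3 = l • T.u3 := Iff.rfl

/-- the eigenvalue on the axis -/
def axisVal (T : Tri D) (x : GLn) : F := H ((x : Mat) *ᵥ T.u3) T.u3 / T.d3

theorem axisVal_eq (T : Tri D) {x : GLn} {l : F} (h : (x : Mat) *ᵥ T.u3 = l • T.u3) : axisVal T x = l := by
  rw [axisVal, h, H_smul_left, T.H33, mul_div_cancel_right₀ _ T.d3_ne]

theorem axisVal_spec {T : Tri D} {M : Subgroup (GL (Fin 3) F)} {x : GLn} (hx : x ∈ St T M) :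
    (x : Mat) *ᵥ T.u3 = axisVal T x • T.u3 := by
  obtain ⟨-, l, hl⟩ := hx
  rw [axisVal_eq T hl, hl]

/-- the cube of the eigenvalue on the axis -/
def cubeHom (T : Tri D) (M : Subgroup (GL (Fin 3) F)) : St T M →* F where
  toFun x := axisVal T x ^ 3
  map_one' := by
    rw [axisVal_eq T (l := 1) (by rw [OneMemClass.coe_one, Units.val_one, one_mulVec, one_smul]), one_pow]
  map_mul' x y := by
    have e : ((x * y : St T M) : GLn).1 *ᵥ T.u3 = (axisVal T x * axisVal T y) • T.u3 := by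
      rw [Subgroup.coe_mul, Max.mulVec_mul_GL, axisVal_spec y.2, mulVec_smul, axisVal_spec x.2, smul_smul, mul_comm]
    rw [axisVal_eq T e, mul_pow]

theorem exists_splitAt {T : Tri D} (h : Split D T.f3) : ∃ i, SplitAt T i := by
  obtain ⟨i, h1, h2, h3, -⟩ := T.exists_i
  exact ⟨i, h1, h2, h3 h⟩

variable {M : Subgroup (GL (Fin 3) F)} (C : Ov D M) (hN : NoRoot D M)
include C

theorem Ov.rotation (T : Tri D) {i α : F} (hi0 : i ≠ 0) (hii : i * i * T.d2 = -T.d1) (hα : α ≠ 0) (h2 : α * α ≠ 1)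
    (hfix : (i ∈ D.F₀ ∧ α ^ q = α) ∨ (i ^ q = -i ∧ α ^ q = α⁻¹)) :
    ∃ g ∈ M, g ∈ G0 D ∧ (g : Mat) *ᵥ T.n1 i = α • T.n1 i ∧ (g : Mat) *ᵥ T.n1 (-i) = α⁻¹ • T.n1 (-i) ∧
      (g : Mat) *ᵥ T.u3 = T.u3 := by
  have hF := D.hF
  refine C.rot T hi0 hii hα (fun e => h2 (by rw [e]; ring)) ?_ ?_ <;>
    rw [fix_iff, ← HermStd.qHom_apply hF]
  · rw [map_div₀, map_add, map_inv₀, map_ofNat, HermStd.qHom_apply]
    rcases hfix with ⟨-, h⟩ | ⟨-, h⟩ <;> rw [h]
    rw [inv_inv, add_comm]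
  · rw [map_div₀, map_mul, map_sub, map_inv₀, map_ofNat, HermStd.qHom_apply, HermStd.qHom_apply]
    rcases hfix with ⟨h', h⟩ | ⟨h', h⟩ <;> rw [h]
    · rw [(fix_iff D i).1 h']
    · rw [h', inv_inv]; ring

theorem Ov.ext_St {T : Tri D} {i : F} (hi : i ≠ 0) {x y : GLn} (h1 : (x : Mat) *ᵥ T.n1 i = (y : Mat) *ᵥ T.n1 i)
    (h2 : (x : Mat) *ᵥ T.n1 (-i) = (y : Mat) *ᵥ T.n1 (-i)) (h3 : (x : Mat) *ᵥ T.u3 = (y : Mat) *ᵥ T.u3) :
    x = y := by
  obtain ⟨a, a', ha⟩ := T.plane_expand hi T.H13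
  obtain ⟨b, b', hb⟩ := T.plane_expand hi T.H23
  refine T.ext_gl ?_ ?_ h3
  · rw [ha]; simp only [mulVec_add, mulVec_smul, h1, h2]
  · rw [hb]; simp only [mulVec_add, mulVec_smul, h1, h2]

include hN

/-- the action on the plane, without elements of order the characteristic -/
theorem Ov.exists_hom {p : ℕ} [Fact p.Prime] [CharP F p] (T : Tri D) :
    ∃ ψ : St T M →* PG, (∀ x, ψ x = 1 ↔ PS T (x : GLn)) ∧ ∀ y : ψ.range, orderOf y ≠ p := by
  classical
  have hF := D.hF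
  obtain ⟨v0, hv0, hs0⟩ := exists_split D
  obtain ⟨T0, hT0⟩ := exists_tri hv0
  obtain ⟨i0, hi0⟩ := exists_splitAt (T := T0) (hT0 ▸ hs0)
  obtain ⟨B, k, hk, hBw⟩ := T.exists_frame_axis
  let e : Cfsg.SU 3 F q ≃* ((Cfsg.GU 3 F q ⊓ Cfsg.Geo.specialLinear (Fin 3) F : Subgroup GLn)) :=
    (MonoidHom.ofInjective (f := emb F q) emb_injective).trans (MulEquiv.subgroupCongr range_emb)
  let φ : St T M →* Cfsg.SU 3 F q := e.symm.toMonoidHom.comp (Subgroup.inclusion fun x hx => C.hMK hx.1)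
  have hφ : ∀ x : St T M, mat (φ x) = ((x : GLn) : Mat) := fun x => by
    rw [← coe_emb]
    have : emb F q (φ x) = ((e (φ x) : (Cfsg.GU 3 F q ⊓ Cfsg.Geo.specialLinear (Fin 3) F : Subgroup GLn)) : GLn) :=
      rfl
    rw [this]
    simp [φ]
  have hmem : ∀ x : St T M, φ x ∈ fixLine F q B.w := fun x => by
    obtain ⟨l, hl⟩ := x.2.2
    refine ⟨l, fun h => Max.mulVec_ne_zero (x : GLn) T.u3_ne (by rw [hl, h, zero_smul]), ?_⟩
    rw [hφ, hBw, mulVec_smul, hl, smul_comm]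
  have hperp : ∀ {v : Vec}, H v B.w = 0 → H v T.u3 = 0 := fun {v} h => by
    rw [hBw, H_smul_right] at h
    exact (mul_eq_zero.1 h).resolve_left (pow_ne_zero _ hk)
  have hperp' : ∀ {v : Vec}, H v T.u3 = 0 → H v B.w = 0 := fun {v} h => by
    rw [hBw, H_smul_right, h, mul_zero]
  let ψ : St T M →* PG := (Plane.planeHom hF B).comp (φ.codRestrict _ hmem)
  have hψ : ∀ x, ψ x = 1 ↔ PS T (x : GLn) := fun x => by
    show Plane.planeHom hF B ⟨φ x, hmem x⟩ = 1 ↔ _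
    rw [Plane.planeHom_eq_one]
    constructor
    · rintro ⟨r, he, hf⟩
      simp only [hφ] at he hf
      have key : ∀ v, H v T.u3 = 0 → ((x : GLn) : Mat) *ᵥ v = r • v := fun v hv => by
        have hd := decomp hF B v
        rw [hperp' hv, zero_smul, add_zero] at hd
        rw [hd, mulVec_add, mulVec_smul, mulVec_smul, he, hf, smul_add, smul_comm r, smul_comm r]
      exact ⟨r, key _ T.H13, key _ T.H23⟩
    · rintro ⟨r, h1, h2⟩
      have key : ∀ v, H v B.w = 0 → ((x : GLn) : Mat) *ᵥ v = r • v := fun v hv => by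
        have hd := T.expand v
        rw [hperp hv, zero_div, zero_smul, add_zero] at hd
        rw [hd, mulVec_add, mulVec_smul, mulVec_smul, h1, h2, smul_add, smul_comm r, smul_comm r]
      exact ⟨r, by rw [hφ]; exact key _ (hew hF B), by rw [hφ]; exact key _ (hfw hF B)⟩
  refine ⟨ψ, hψ, fun y hy => ?_⟩
  obtain ⟨_, x, rfl⟩ := y
  rw [← Subgroup.orderOf_coe] at hy
  obtain ⟨j, m, hm, hjm⟩ := Nat.exists_eq_pow_mul_and_not_dvd (orderOf_pos x).ne' p (Fact.out : p.Prime).ne_one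
  have hxp : (x ^ m) ^ p ^ j = 1 := by rw [← pow_mul, mul_comm, ← hjm, pow_orderOf_eq_one]
  have hne : ψ (x ^ m) ≠ 1 := fun h => hm (by
    rw [map_pow] at h
    exact hy ▸ orderOf_dvd_of_pow_eq_one h)
  set y := x ^ m
  obtain ⟨B', -, hZ⟩ := Plane.exists_centre hF B (k := ⟨φ y, hmem y⟩)
    (fun h => hne ((Plane.planeHom_eq_one hF B ⟨φ y, hmem y⟩).2 h)) (i := j)
    (Subtype.ext (by
      rw [SubgroupClass.coe_pow, OneMemClass.coe_one]
      show φ y ^ p ^ j = 1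
      rw [← map_pow, hxp, map_one]))
  have hc := Group.tau_traceZero hF B' hZ
  have hy' : ∀ v, ((y : GLn) : Mat) *ᵥ v = v + (Borel.tau B' (φ y) * H v B'.e) • B'.e := fun v => by
    have e1 : φ y = tvu hF B'.he hc := by
      obtain ⟨u1, u2⟩ := (Group.mem_Zg_iff hF B').1 hZ
      obtain ⟨v1, v2⟩ := (Group.mem_Zg_iff hF B').1 (Group.tvu_mem_Zg hF B' hc).1
      exact unip_ext hF B' u1 v1 (u2.trans v2.symm) (Group.tvu_mem_Zg hF B' _).2.symm
    rw [← hφ y]
    conv_lhs => rw [e1]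
    exact tvu_mulVec hF B'.he hc v
  have h0 := C.no_tv hN hi0 (p := p) B'.he (e_ne B') hc (inM_of y.2.1 hy')
  refine hne ((hψ y).2 ⟨1, ?_, ?_⟩) <;> rw [hy', h0, zero_mul, zero_smul, add_zero, one_smul]

/-- either everything is monomial or the image is exceptional -/
theorem Ov.plane_cases {p : ℕ} [Fact p.Prime] [CharP F p] (T : Tri D) {i α : F} (hi : i ≠ 0)
    (hα4 : α ^ 4 ≠ 1) {R : GLn} (hR : R ∈ M) (hR1 : (R : Mat) *ᵥ T.n1 i = α • T.n1 i)
    (hR2 : (R : Mat) *ᵥ T.n1 (-i) = α⁻¹ • T.n1 (-i)) (hR3 : (R : Mat) *ᵥ T.u3 = T.u3)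
    (hk : ∀ x ∈ St T M, PS T x → axisVal T x ^ 3 = 1) :
    (∀ x ∈ St T M, Mono T i x) ∨
      (α ^ 6 = 1 ∧ (∀ x ∈ St T M, axisVal T x ^ 3 = 1 → PS T (x ^ 2) ∨ PS T (x ^ 3)) ∧
        ∀ (S : Sylow 2 (St T M)) (z : St T M), (∀ s ∈ (S : Subgroup (St T M)), z * s = s * z) →
          axisVal T (z : GLn) ^ 3 = 1) := by
  classical
  obtain ⟨ψ, hψ, hp⟩ := C.exists_hom hN (p := p) T
  have hα0 : α ≠ 0 := fun h => Max.mulVec_ne_zero R (T.n_ne i) (by rw [hR1, h, zero_smul])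
  let t : St T M := ⟨R, hR, 1, by rw [hR3, one_smul]⟩
  have hpow : ∀ n : ℕ, ((R ^ n : GLn) : Mat) *ᵥ T.n1 i = α ^ n • T.n1 i ∧
      ((R ^ n : GLn) : Mat) *ᵥ T.n1 (-i) = α⁻¹ ^ n • T.n1 (-i) := by
    intro n
    induction n with
    | zero => simp
    | succ n ih =>
      rw [pow_succ', Max.mulVec_mul_GL, Max.mulVec_mul_GL, ih.1, ih.2, mulVec_smul, mulVec_smul, hR1, hR2, smul_smul,
        smul_smul, ← pow_succ, ← pow_succ]
      exact ⟨rfl, rfl⟩
  have htn : ∀ n : ℕ, ψ t ^ n = 1 → α ^ (2 * n) = 1 := fun n h => by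
    rw [← map_pow, hψ, SubgroupClass.coe_pow] at h
    obtain ⟨r, hr⟩ := h.n
    have e1 := smul_left_injective F (T.n_ne i) ((hpow n).1.symm.trans (hr i))
    have e2 := smul_left_injective F (T.n_ne (-i)) ((hpow n).2.symm.trans (hr (-i)))
    rw [two_mul, pow_add]
    conv_lhs => lhs; rw [show α ^ n = α⁻¹ ^ n from e1.trans e2.symm]
    rw [← mul_pow, inv_mul_cancel₀ hα0, one_pow]
  set t' : ψ.range := ψ.rangeRestrict t with ht'
  have htt : t' * t' ≠ 1 := fun h => hα4 (htn 2 (by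
    rw [pow_two]; exact congrArg Subtype.val h))
  rcases Abstract.shape p ψ.range hp with hfl | hexc
  · left
    have half : ∀ x ∈ St T M, ∀ j, (j = i ∨ j = -i) →
        (∃ a : F, (x : Mat) *ᵥ T.n1 j = a • T.n1 i) ∨ (∃ a : F, (x : Mat) *ᵥ T.n1 j = a • T.n1 (-i)) := by
      intro x hx j hj
      set g : St T M := ⟨x, hx⟩⁻¹
      obtain ⟨c, hc⟩ : ∃ c : F, (((g * t * g⁻¹ : St T M) : GLn) : Mat) *ᵥ T.n1 j = c • T.n1 j := by
        rcases Abstract.flat_conj hfl htt (ψ.rangeRestrict g) with h | h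
        · rw [ht', ← map_inv, ← map_mul, ← map_mul] at h
          have h' : ψ (g * t * g⁻¹ * t⁻¹) = 1 := by
            rw [map_mul, map_inv, mul_inv_eq_one]; exact congrArg Subtype.val h
          obtain ⟨r, hr⟩ := ((hψ _).1 h').n
          have e : ∀ c, (R : Mat) *ᵥ T.n1 j = c • T.n1 j →
              (((g * t * g⁻¹ : St T M) : GLn) : Mat) *ᵥ T.n1 j = (c * r) • T.n1 j := fun c hc => by
            rw [show ((g * t * g⁻¹ : St T M) : GLn) = ((g * t * g⁻¹ * t⁻¹ : St T M) : GLn) * R by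
              simp [t], Max.mulVec_mul_GL, hc, mulVec_smul, hr, smul_smul]
          rcases hj with rfl | rfl
          exacts [⟨_, e _ hR1⟩, ⟨_, e _ hR2⟩]
        · rw [ht', ← map_inv, ← map_inv, ← map_mul, ← map_mul] at h
          have h' : ψ (g * t * g⁻¹ * t) = 1 := by
            rw [map_mul, mul_eq_one_iff_eq_inv, ← map_inv]; exact congrArg Subtype.val h
          obtain ⟨r, hr⟩ := ((hψ _).1 h').n
          have e : ∀ c, ((R⁻¹ : GLn) : Mat) *ᵥ T.n1 j = c • T.n1 j →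
              (((g * t * g⁻¹ : St T M) : GLn) : Mat) *ᵥ T.n1 j = (c * r) • T.n1 j := fun c hc => by
            rw [show ((g * t * g⁻¹ : St T M) : GLn) = ((g * t * g⁻¹ * t : St T M) : GLn) * R⁻¹ by
              simp [t], Max.mulVec_mul_GL, hc, mulVec_smul, hr, smul_smul]
          rcases hj with rfl | rfl
          exacts [⟨_, e _ (mulVec_inv_smul (T.n_ne _) hR1)⟩, ⟨_, e _ (mulVec_inv_smul (T.n_ne _) hR2)⟩]
      set v := (x : Mat) *ᵥ T.n1 j
      have hv : H v T.u3 = 0 := C.axis_preserved' hx.1 (axisVal_spec hx) (T.n3 j)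
      have hRv : (R : Mat) *ᵥ v = c • v := by
        have h1 := congrArg (fun y => (x : Mat) *ᵥ y) hc
        simp only [g, inv_inv, Subgroup.coe_mul, InvMemClass.coe_inv, Max.mulVec_mul_GL, Max.mulVec_inv_cancel,
          mulVec_smul] at h1
        exact h1
      obtain ⟨a, b, hab⟩ := T.plane_expand hi hv
      rw [hab, mulVec_add, mulVec_smul, mulVec_smul, hR1, hR2] at hRv
      obtain ⟨ha, hb⟩ := T.n_indep hi (p := a * α - c * a) (r := b * α⁻¹ - c * b) (by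
        rw [smul_add, smul_smul, smul_smul, smul_smul, smul_smul] at hRv
        rw [sub_smul, sub_smul, show (a * α) • T.n1 i - (c * a) • T.n1 i + ((b * α⁻¹) • T.n1 (-i) - (c * b) • T.n1 (-i))
          = ((a * α) • T.n1 i + (b * α⁻¹) • T.n1 (-i)) - ((c * a) • T.n1 i + (c * b) • T.n1 (-i)) by abel, hRv,
          sub_self])
      by_cases ha0 : a = 0
      · exact Or.inr ⟨b, by rw [hab, ha0, zero_smul, zero_add]⟩
      refine Or.inl ⟨a, ?_⟩
      have hca : c = α := mul_right_cancel₀ ha0 (by linear_combination -ha)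
      have hb0 : b = 0 := by
        by_contra hb0
        have : α⁻¹ = α := mul_left_cancel₀ hb0 (by linear_combination hb + b * hca)
        exact hα4 (by
          rw [show α ^ 4 = (α * α) * (α * α) by ring]
          nth_rewrite 2 [← this]
          nth_rewrite 3 [← this]
          field_simp)
      rw [hab, hb0, zero_smul, add_zero]
    intro x hx
    have hsame : ∀ (j a b : F), (x : Mat) *ᵥ T.n1 i = a • T.n1 j → (x : Mat) *ᵥ T.n1 (-i) = b • T.n1 j → False := by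
      intro j a b h1 h2
      have h3 : b • T.n1 i - a • T.n1 (-i) = 0 := by
        refine Max.mulVec_inj x ?_
        rw [mulVec_sub, mulVec_smul, mulVec_smul, h1, h2, mulVec_zero, smul_comm, sub_self]
      have h4 := T.n_indep hi (p := b) (r := -a) (by rw [neg_smul, ← sub_eq_add_neg, h3])
      exact Max.mulVec_ne_zero x (T.n_ne i) (by rw [h1, neg_eq_zero.1 h4.2, zero_smul])
    rcases half x hx i (Or.inl rfl) with ⟨a, ha⟩ | ⟨a, ha⟩ <;>
      rcases half x hx (-i) (Or.inr rfl) with ⟨b, hb⟩ | ⟨b, hb⟩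
    · exact (hsame i a b ha hb).elim
    · exact ⟨a, b, Or.inl ⟨ha, hb⟩⟩
    · exact ⟨a, b, Or.inr ⟨ha, hb⟩⟩
    · exact (hsame (-i) a b ha hb).elim
  · right
    let K : Subgroup (St T M) := (cubeHom T M).ker
    let Y : Subgroup ψ.range := K.map ψ.rangeRestrict
    have hYn : Y.Normal := (inferInstance : K.Normal).map _ ψ.rangeRestrict_surjective
    obtain ⟨w, hwM, -, hwn, hw3⟩ := C.rev T
    let w' : St T M := ⟨w, hwM, -1, by rw [hw3, neg_one_smul]⟩
    have hlift : ∀ z : St T M, ψ.rangeRestrict z ∈ Y → axisVal T (z : GLn) ^ 3 = 1 := by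
      rintro z ⟨x, hx, hxz⟩
      have h1 : ψ (x⁻¹ * z) = 1 := by
        rw [map_mul, map_inv, inv_mul_eq_one]; exact congrArg Subtype.val hxz
      have h2 : cubeHom T M (x⁻¹ * z) = 1 := hk _ (x⁻¹ * z).2 ((hψ _).1 h1)
      have h3 : cubeHom T M z = cubeHom T M x * cubeHom T M (x⁻¹ * z) := by rw [← map_mul, mul_inv_cancel_left]
      rw [h2, mul_one, MonoidHom.mem_ker.1 hx] at h3
      exact h3
    have htY : t' ∈ Y := ⟨t, MonoidHom.mem_ker.2 (show axisVal T R ^ 3 = 1 by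
      rw [axisVal_eq T (l := 1) (by rw [hR3, one_smul]), one_pow]), rfl⟩
    have hwY : ψ.rangeRestrict w' ∉ Y := fun h => by
      have h1 := hlift w' h
      rw [show axisVal T (w' : GLn) = -1 from axisVal_eq T (by rw [show (w' : GLn) = w from rfl, hw3, neg_one_smul])]
        at h1
      exact two_ne D (by linear_combination -h1)
    have hinv : ψ.rangeRestrict w' * t' * (ψ.rangeRestrict w')⁻¹ = t'⁻¹ := by
      rw [ht', ← map_inv, ← map_inv, ← map_mul, ← map_mul]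
      congr 1
      refine Subtype.ext ?_
      show w * R * w⁻¹ = R⁻¹
      have hw1 : ∀ j : F, ((w⁻¹ : GLn) : Mat) *ᵥ T.n1 j = -T.n1 (-j) := fun j => mulVec_inv_eq (by
        rw [mulVec_neg, hwn, neg_neg, neg_neg])
      refine C.ext_St (T := T) hi ?_ ?_ ?_
      · rw [Max.mulVec_mul_GL, Max.mulVec_mul_GL, hw1, mulVec_neg, hR2, mulVec_neg, mulVec_smul, hwn, neg_neg,
          smul_neg, neg_neg, mulVec_inv_smul (T.n_ne i) hR1]
      · rw [Max.mulVec_mul_GL, Max.mulVec_mul_GL, hw1, neg_neg, mulVec_neg, hR1, mulVec_neg, mulVec_smul, hwn,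
          smul_neg, neg_neg, mulVec_inv_smul (T.n_ne (-i)) hR2, inv_inv]
      · rw [Max.mulVec_mul_GL, Max.mulVec_mul_GL, mulVec_inv_eq (v := -T.u3) (by rw [mulVec_neg, hw3, neg_neg]),
          mulVec_neg, hR3, mulVec_neg, hw3, neg_neg]
        exact (mulVec_inv_eq hR3).symm
    obtain ⟨h6, hexp, hsyl⟩ := Abstract.exceptional hexc Y hYn htY htt hwY hinv
    refine ⟨?_, fun x hx hl => ?_, fun S z hz => hlift z ?_⟩
    · exact htn 3 (congrArg Subtype.val h6)
    · have hxY : ψ.rangeRestrict ⟨x, hx⟩ ∈ Y := ⟨⟨x, hx⟩, MonoidHom.mem_ker.2 hl, rfl⟩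
      rcases hexp _ hxY with h | h
      · left
        exact (hψ (⟨x, hx⟩ ^ 2)).1 (by rw [map_pow, pow_two]; exact congrArg Subtype.val h)
      · right
        exact (hψ (⟨x, hx⟩ ^ 3)).1 (by rw [map_pow]; exact congrArg Subtype.val h)
    · haveI : Fact (Nat.Prime 2) := ⟨Nat.prime_two⟩
      refine hsyl (S.mapSurjective ψ.rangeRestrict_surjective) _ ?_
      rintro _ ⟨s, hs, rfl⟩
      rw [← map_mul, hz s hs, map_mul]

end Cfsg.Agent.Forms.Max.SU3.Orth
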