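import Mathlib
import Cfsg.Agent.Lib.Forms.Max.SU3.Orth.Stab

/-!
# Stabilisers of rational anisotropic points are rational
-/

set_option autoImplicit false
set_option linter.unusedSectionVars false

namespace Cfsg.Agent.Forms.Max.SU3.Orth

open Matrix Cfsg.Agent.Classical Cfsg.Agent.Classical.Unitary
open SU4.Orth (Data rv rv_add rv_smul rv_sub rv_neg rv_zero rv_eq_zero fix_iff pow_q_coe th th_ne th_q hrat hB refl'
  hH0 dual two_ne two_ne')

universe u

variable {F : Type u} [Field F] [Fintype F] {q : ℕ}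

local notation "Idx" => (Fin 3)
local notation "Vec" => (Fin 3 → F)
local notation "Mat" => Matrix (Fin 3) (Fin 3) F
local notation "GLn" => GL (Fin 3) F
local notation "H" => Cfsg.hermForm 3 F q
local notation "BF" => SU4.Orth.B

variable {D : Data F q 3}

/-- the frame with the axes moved cyclically -/
def Tri.rot3 (T : Tri D) : Tri D :=
  ⟨T.f2, T.f3, T.f1, T.a2, T.a3, T.a1, T.p23, T.p21, T.p31⟩

theorem Tri.rot3_u3 (T : Tri D) : T.rot3.u3 = T.u1 := rfl

/-- coordinates of a vector with respect to the rotation eigenvectors -/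
theorem Tri.eigen_coord (T : Tri D) {i : F} (hi : i ≠ 0) {R : GLn} {α : F}
    (hR1 : (R : Mat) *ᵥ T.n1 i = α • T.n1 i) (hR2 : (R : Mat) *ᵥ T.n1 (-i) = α⁻¹ • T.n1 (-i))
    (hR3 : (R : Mat) *ᵥ T.u3 = T.u3) {v : Vec} {c : F} (hv : (R : Mat) *ᵥ v = c • v) :
    ∃ p r s : F, v = p • T.n1 i + r • T.n1 (-i) + s • T.u3 ∧
      (c ≠ α → p = 0) ∧ (c ≠ α⁻¹ → r = 0) ∧ (c ≠ 1 → s = 0) := by
  set s := H v T.u3 / T.d3 with hs
  obtain ⟨p, r, hpr⟩ := T.plane_expand hi (v := v - s • T.u3) (by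
    rw [H_sub_left, H_smul_left, T.H33, hs, div_mul_cancel₀ _ T.d3_ne, sub_self])
  have hv' : v = p • T.n1 i + r • T.n1 (-i) + s • T.u3 := by rw [← hpr, sub_add_cancel]
  rw [hv', mulVec_add, mulVec_add, mulVec_smul, mulVec_smul, mulVec_smul, hR1, hR2, hR3] at hv
  have h0 : (p * α - c * p) • T.n1 i + (r * α⁻¹ - c * r) • T.n1 (-i) + (s - c * s) • T.u3 = 0 := by
    rw [← sub_self (c • (p • T.n1 i + r • T.n1 (-i) + s • T.u3))]
    nth_rewrite 1 [← hv]
    module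
  have h3 := congrArg (fun y => H y T.u3) h0
  simp only [H_add_left, H_smul_left, T.n3, T.H33, H_zero_left, mul_zero, zero_add] at h3
  have hs0 : s - c * s = 0 := (mul_eq_zero.1 h3).resolve_right T.d3_ne
  rw [hs0, zero_smul, add_zero] at h0
  obtain ⟨hp, hr⟩ := T.n_indep hi h0
  refine ⟨p, r, s, hv', fun h => ?_, fun h => ?_, fun h => ?_⟩
  · exact (mul_eq_zero.1 (show (α - c) * p = 0 by linear_combination hp)).resolve_left (sub_ne_zero.2 (Ne.symm h))
  · exact (mul_eq_zero.1 (show (α⁻¹ - c) * r = 0 by linear_combination hr)).resolve_left (sub_ne_zero.2 (Ne.symm h))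
  · exact (mul_eq_zero.1 (show (1 - c) * s = 0 by linear_combination hs0)).resolve_left (sub_ne_zero.2 (Ne.symm h))

variable {M : Subgroup (GL (Fin 3) F)} (C : Ov D M)
include C

theorem Ov.rev_conj (T : Tri D) {i α : F} (hi : i ≠ 0) {R w : GLn}
    (hR1 : (R : Mat) *ᵥ T.n1 i = α • T.n1 i) (hR2 : (R : Mat) *ᵥ T.n1 (-i) = α⁻¹ • T.n1 (-i))
    (hR3 : (R : Mat) *ᵥ T.u3 = T.u3) (hwn : ∀ j : F, (w : Mat) *ᵥ T.n1 j = -T.n1 (-j))
    (hw3 : (w : Mat) *ᵥ T.u3 = -T.u3) : w * w = 1 ∧ w * R * w⁻¹ = R⁻¹ := by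
  have hw1 : ∀ j : F, ((w⁻¹ : GLn) : Mat) *ᵥ T.n1 j = -T.n1 (-j) := fun j => mulVec_inv_eq (by
    rw [mulVec_neg, hwn, neg_neg, neg_neg])
  constructor
  · refine C.ext_St (T := T) hi ?_ ?_ ?_ <;>
      rw [Max.mulVec_mul_GL, Units.val_one, one_mulVec]
    · rw [hwn, mulVec_neg, hwn, neg_neg, neg_neg]
    · rw [hwn, mulVec_neg, hwn, neg_neg, neg_neg]
    · rw [hw3, mulVec_neg, hw3, neg_neg]
  · refine C.ext_St (T := T) hi ?_ ?_ ?_
    · rw [Max.mulVec_mul_GL, Max.mulVec_mul_GL, hw1, mulVec_neg, hR2, mulVec_neg, mulVec_smul, hwn, neg_neg,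
        smul_neg, neg_neg, mulVec_inv_smul (T.n_ne i) hR1]
    · rw [Max.mulVec_mul_GL, Max.mulVec_mul_GL, hw1, neg_neg, mulVec_neg, hR1, mulVec_neg, mulVec_smul, hwn,
        smul_neg, neg_neg, mulVec_inv_smul (T.n_ne (-i)) hR2, inv_inv]
    · rw [Max.mulVec_mul_GL, Max.mulVec_mul_GL, mulVec_inv_eq (v := -T.u3) (by rw [mulVec_neg, hw3, neg_neg]),
        mulVec_neg, hR3, mulVec_neg, hw3, neg_neg]
      exact (mulVec_inv_eq hR3).symm

/-- a rotation of full order -/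
theorem Ov.exists_rot (T : Tri D) :
    ∃ (i α : F) (R : GLn), i ≠ 0 ∧ R ∈ M ∧ R ∈ G0 D ∧ (R : Mat) *ᵥ T.n1 i = α • T.n1 i ∧
      (R : Mat) *ᵥ T.n1 (-i) = α⁻¹ • T.n1 (-i) ∧ (R : Mat) *ᵥ T.u3 = T.u3 ∧ α ≠ 0 ∧ i * i * T.d2 = -T.d1 ∧
      ((Split D T.f3 ∧ SplitAt T i ∧ (orderOf α = q - 1 ∨ q ≤ 3)) ∨
        (¬ Split D T.f3 ∧ i ^ q = -i ∧ (orderOf α = q + 1 ∨ q ≤ 3))) := by
  classical
  have hF := D.hF
  obtain ⟨i, hi0, hii, hmem, hneg⟩ := T.exists_i
  have hsq : Fintype.card F - 1 = (q - 1) * (q + 1) := by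
    rw [hF]
    obtain ⟨j, hj⟩ : ∃ j, q = j + 1 := ⟨q - 1, (Nat.succ_pred_eq_of_pos (Nat.pos_of_ne_zero (q_ne_zero hF))).symm⟩
    subst hj
    rw [Nat.add_sub_cancel, show (j + 1) ^ 2 = j * (j + 1 + 1) + 1 by ring, Nat.add_sub_cancel]
  by_cases hq : q ≤ 3
  · obtain ⟨g, hg, hg0, -, -⟩ := C.rev T
    refine ⟨i, 1, 1, hi0, one_mem M, one_mem _, by simp, by simp, by simp, one_ne_zero, hii, ?_⟩
    by_cases hs : Split D T.f3
    · exact Or.inl ⟨hs, ⟨hi0, hii, hmem hs⟩, Or.inr hq⟩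
    · exact Or.inr ⟨hs, hneg hs, Or.inr hq⟩
  by_cases hs : Split D T.f3
  · obtain ⟨α, hα, ho⟩ := exists_order (F := F) (N := q - 1) (hsq ▸ Dvd.intro _ rfl)
    have h2 : α * α ≠ 1 := fun h => by
      have := Nat.le_of_dvd two_pos (ho ▸ orderOf_dvd_of_pow_eq_one (show α ^ 2 = 1 by rw [pow_two, h]))
      omega
    have hαq : α ^ q = α := by
      conv_lhs => rw [show q = (q - 1) + 1 by omega, pow_succ, ← ho, pow_orderOf_eq_one, one_mul]
    obtain ⟨R, hR, hR0, h1, h2', h3⟩ := C.rotation T hi0 hii hα h2 (Or.inl ⟨hmem hs, hαq⟩)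
    exact ⟨i, α, R, hi0, hR, hR0, h1, h2', h3, hα, hii, Or.inl ⟨hs, ⟨hi0, hii, hmem hs⟩, Or.inl ho⟩⟩
  · obtain ⟨α, hα, ho⟩ := exists_order (F := F) (N := q + 1) (hsq ▸ Dvd.intro_left _ rfl)
    have h2 : α * α ≠ 1 := fun h => by
      have := Nat.le_of_dvd two_pos (ho ▸ orderOf_dvd_of_pow_eq_one (show α ^ 2 = 1 by rw [pow_two, h]))
      omega
    have hαq : α ^ q = α⁻¹ := eq_inv_of_mul_eq_one_left (by rw [← pow_succ, ← ho, pow_orderOf_eq_one])
    obtain ⟨R, hR, hR0, h1, h2', h3⟩ := C.rotation T hi0 hii hα h2 (Or.inr ⟨hneg hs, hαq⟩)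
    exact ⟨i, α, R, hi0, hR, hR0, h1, h2', h3, hα, hii, Or.inr ⟨hs, hneg hs, Or.inl ho⟩⟩

variable (hN : NoRoot D M) (hq : 7 ≤ q)
include hN hq

omit hq in
theorem Ov.split_mono {T : Tri D} {i : F} (hi : SplitAt T i) {x : GLn} (hx : x ∈ St T M) (hm : Mono T i x) :
    x ∈ G0 D ∧ (axisVal T x ^ 3 = 1 → PS T (x ^ ((q - 1) / 2))) := by
  have hF := D.hF
  have hl := axisVal_spec hx
  obtain ⟨a, b, ⟨ha, hb⟩ | ⟨ha, hb⟩⟩ := hm
  · obtain ⟨h0, μ, hμ, hμ0, -, h1, h2, -⟩ := C.diag hN hi hx.1 ha hb hl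
    refine ⟨h0, fun _ => ?_⟩
    set l := axisVal T x
    have hpow : ∀ (c : F) (v : Vec), (x : Mat) *ᵥ v = c • v → ∀ n : ℕ, ((x ^ n : GLn) : Mat) *ᵥ v = c ^ n • v := by
      intro c v h n
      induction n with
      | zero => simp
      | succ n ih => rw [pow_succ', Max.mulVec_mul_GL, ih, mulVec_smul, h, smul_smul, pow_succ]
    have hq1 : μ ^ (q - 1) = 1 := mul_right_cancel₀ hμ0 (by
      rw [one_mul, ← pow_succ, Nat.sub_add_cancel (Nat.pos_of_ne_zero (q_ne_zero hF))]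
      exact (fix_iff D μ).1 hμ)
    have he : 2 * ((q - 1) / 2) = q - 1 := by
      obtain ⟨j, hj⟩ := D.hodd
      omega
    have hμ2 : μ ^ ((q - 1) / 2) * μ ^ ((q - 1) / 2) = 1 := by rw [← pow_add, ← two_mul, he, hq1]
    refine PS.mk_n (r := (l * μ) ^ ((q - 1) / 2)) hi.ne (hpow _ _ h1 _) ?_
    rw [hpow _ _ h2, div_pow, mul_pow]
    congr 1
    rw [div_eq_iff (pow_ne_zero _ hμ0), mul_assoc, hμ2, mul_one]
  · obtain ⟨w, hwM, hw0, hwn, hw3⟩ := C.rev T
    obtain ⟨h0, μ, -, -, hl3, -⟩ := C.diag hN hi (mul_mem hwM hx.1) (α := -a) (β := -b) (l := -axisVal T x)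
      (by rw [Max.mulVec_mul_GL, ha, mulVec_smul, hwn, neg_neg, smul_neg, neg_smul])
      (by rw [Max.mulVec_mul_GL, hb, mulVec_smul, hwn, smul_neg, neg_smul])
      (by rw [Max.mulVec_mul_GL, hl, mulVec_smul, hw3, smul_neg, neg_smul])
    refine ⟨?_, fun h => ?_⟩
    · have := mul_mem (inv_mem hw0) h0
      rwa [inv_mul_cancel_left] at this
    · exfalso
      exact two_ne D (by linear_combination (-1 : F) * h - hl3)

omit hq in
theorem Ov.split_kernel {T : Tri D} {i : F} (hi : SplitAt T i) : ∀ x ∈ St T M, PS T x → axisVal T x ^ 3 = 1 := by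
  intro x hx hps
  obtain ⟨r, hr⟩ := hps.n
  obtain ⟨-, μ, -, -, h3, -⟩ := C.diag hN hi hx.1 (hr i) (hr (-i)) (axisVal_spec hx)
  exact h3

theorem Ov.split_data {p : ℕ} [Fact p.Prime] [CharP F p] {T : Tri D} (hs : Split D T.f3) :
    (∀ x ∈ St T M, axisVal T x ^ 3 = 1 → ∃ m, 0 < m ∧ 2 * m < q + 1 ∧ PS T (x ^ m)) ∧
      ((∀ x ∈ St T M, x ∈ G0 D) ∨ (q = 7 ∧ ∀ (S : Sylow 2 (St T M)) (z : St T M),
        (∀ s ∈ (S : Subgroup (St T M)), z * s = s * z) → axisVal T (z : GLn) ^ 3 = 1)) := by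
  obtain ⟨i, α, R, -, hR, -, h1, h2, h3, hα, -, ⟨-, hi, ho⟩ | ⟨h, -⟩⟩ := C.exists_rot T
  swap
  · exact absurd hs h
  have ho' : orderOf α = q - 1 := ho.resolve_right (by omega)
  have hα4 : α ^ 4 ≠ 1 := fun h => by
    have := Nat.le_of_dvd (by norm_num) (ho' ▸ orderOf_dvd_of_pow_eq_one h)
    omega
  rcases C.plane_cases hN (p := p) T hi.ne hα4 hR h1 h2 h3 (C.split_kernel hN hi) with h | ⟨h6, hexp, hsyl⟩
  · exact ⟨fun x hx hl => ⟨(q - 1) / 2, by omega, by omega, (C.split_mono hN hi hx (h x hx)).2 hl⟩,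
      Or.inl fun x hx => (C.split_mono hN hi hx (h x hx)).1⟩
  · have h7 : q = 7 := by
      have := Nat.le_of_dvd (by norm_num) (ho' ▸ orderOf_dvd_of_pow_eq_one h6)
      omega
    refine ⟨fun x hx hl => ?_, Or.inr ⟨h7, hsyl⟩⟩
    rcases hexp x hx hl with h | h
    · exact ⟨2, by norm_num, by omega, h⟩
    · exact ⟨3, by norm_num, by omega, h⟩

/-- split and non-split axes are not conjugate -/
theorem Ov.nonconj {p : ℕ} [Fact p.Prime] [CharP F p] {T T' : Tri D} (hs : Split D T.f3) (hs' : ¬ Split D T'.f3)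
    {g : GLn} (hg : g ∈ M) {c : F} (hgc : (g : Mat) *ᵥ T.u3 = c • T'.u3) : False := by
  obtain ⟨i, α, R, hi, hR, -, h1, h2, h3, hα, -, ⟨h, -⟩ | ⟨-, -, ho⟩⟩ := C.exists_rot T'
  · exact absurd h hs'
  have ho' : orderOf α = q + 1 := ho.resolve_right (by omega)
  have hy3 : ((g⁻¹ * R * g : GLn) : Mat) *ᵥ T.u3 = (1 : F) • T.u3 := by
    rw [Max.mulVec_mul_GL, Max.mulVec_mul_GL, hgc, mulVec_smul, h3, ← hgc, Max.inv_mulVec_cancel, one_smul]
  obtain ⟨m, hm, hm', r, hr1, hr2⟩ := (C.split_data hN hq (p := p) hs).1 (g⁻¹ * R * g)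
    ⟨mul_mem (mul_mem (inv_mem hg) hR) hg, 1, hy3⟩ (by rw [axisVal_eq T hy3, one_pow])
  have hpowR : ∀ (c : F) (v : Vec), (R : Mat) *ᵥ v = c • v → ∀ n : ℕ, ((R ^ n : GLn) : Mat) *ᵥ v = c ^ n • v := by
    intro c v h n
    induction n with
    | zero => simp
    | succ n ih => rw [pow_succ', Max.mulVec_mul_GL, ih, mulVec_smul, h, smul_smul, pow_succ]
  have hc : c ≠ 0 := fun h => Max.mulVec_ne_zero g T.u3_ne (by rw [hgc, h, zero_smul])
  have key : ∀ j, ((R ^ m : GLn) : Mat) *ᵥ T'.n1 j = r • T'.n1 j := by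
    intro j
    set v := ((g⁻¹ : GLn) : Mat) *ᵥ T'.n1 j
    have hv : H v T.u3 = 0 := by
      rw [← C.map_H hg, Max.mulVec_inv_cancel, hgc, H_smul_right, T'.n3, mul_zero]
    have hv' := T.expand v
    rw [hv, zero_div, zero_smul, add_zero] at hv'
    have e : (((g⁻¹ * R * g) ^ m : GLn) : Mat) *ᵥ v = r • v := by
      rw [hv', mulVec_add, mulVec_smul, mulVec_smul, hr1, hr2, smul_add, smul_comm r, smul_comm r]
    rw [show (g⁻¹ * R * g) ^ m = g⁻¹ * R ^ m * g by simpa using conj_pow (a := g⁻¹) (b := R) (i := m),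
      Max.mulVec_mul_GL, Max.mulVec_mul_GL, Max.mulVec_inv_cancel] at e
    have e' := congrArg (fun y => (g : Mat) *ᵥ y) e
    simp only [Max.mulVec_inv_cancel, mulVec_smul, v] at e'
    exact e'
  have e1 := smul_left_injective F (T'.n_ne i) ((hpowR _ _ h1 m).symm.trans (key i))
  have e2 := smul_left_injective F (T'.n_ne (-i)) ((hpowR _ _ h2 m).symm.trans (key (-i)))
  have h2m : α ^ (2 * m) = 1 := by
    rw [two_mul, pow_add]
    conv_lhs => lhs; rw [show α ^ m = α⁻¹ ^ m from e1.trans e2.symm]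
    rw [← mul_pow, inv_mul_cancel₀ hα, one_pow]
  have := Nat.le_of_dvd (by omega) (ho' ▸ orderOf_dvd_of_pow_eq_one h2m)
  omega

/-- stabilisers of split axes are rational -/
theorem Ov.split_rat {p : ℕ} [Fact p.Prime] [CharP F p] {T : Tri D} (hs : Split D T.f3) :
    ∀ x ∈ St T M, x ∈ G0 D := by
  classical
  rcases (C.split_data hN hq (p := p) hs).2 with h | ⟨h7, hsyl⟩
  · exact h
  exfalso
  haveI : Fact (Nat.Prime 2) := ⟨Nat.prime_two⟩
  obtain ⟨v, hv, hns⟩ := exists_nonsplit D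
  obtain ⟨T', hT'⟩ := exists_tri hv
  have hs' : ¬ Split D T'.f3 := hT' ▸ hns
  obtain ⟨i, α, R, hi, hR, -, h1, h2, h3, hα, -, ⟨h, -⟩ | ⟨-, -, ho⟩⟩ := C.exists_rot T'
  · exact absurd h hs'
  have ho' : orderOf α = 8 := by rw [ho.resolve_right (by omega), h7]
  have hα8 : α ^ 8 = 1 := ho' ▸ pow_orderOf_eq_one α
  have hα2 : α * α ≠ 1 := fun h => by
    have := Nat.le_of_dvd two_pos (ho' ▸ orderOf_dvd_of_pow_eq_one (show α ^ 2 = 1 by rw [pow_two, h]))
    omega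
  have hα1 : α ≠ 1 := fun h => hα2 (by rw [h, one_mul])
  have hαi : α ≠ α⁻¹ := fun h => hα2 (by nth_rewrite 2 [h]; exact mul_inv_cancel₀ hα)
  have hR8 : R ^ 8 = 1 := by
    have hp : ∀ (c : F) (v : Vec), (R : Mat) *ᵥ v = c • v → ∀ n : ℕ, ((R ^ n : GLn) : Mat) *ᵥ v = c ^ n • v := by
      intro c v h n
      induction n with
      | zero => simp
      | succ n ih => rw [pow_succ', Max.mulVec_mul_GL, ih, mulVec_smul, h, smul_smul, pow_succ]
    refine C.ext_St (T := T') hi ?_ ?_ ?_ <;> rw [Units.val_one, one_mulVec]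
    · rw [hp _ _ h1, hα8, one_smul]
    · rw [hp _ _ h2, inv_pow, hα8, inv_one, one_smul]
    · rw [hp 1 _ (by rw [h3, one_smul]), one_pow, one_smul]
  obtain ⟨w, hwM, -, hwn, hw3⟩ := C.rev T'
  obtain ⟨hww, hwR⟩ := C.rev_conj T' hi h1 h2 h3 hwn hw3
  -- a Sylow subgroup containing the dihedral group
  set R' : M := ⟨R, hR⟩
  set w' : M := ⟨w, hwM⟩
  have hwR' : w' * R' * w'⁻¹ = R'⁻¹ := Subtype.ext hwR
  have hwi : w'⁻¹ = w' := inv_eq_of_mul_eq_one_right (Subtype.ext hww)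
  have hpR : IsPGroup 2 (Subgroup.zpowers R') := by
    rintro ⟨y, n, rfl⟩
    refine ⟨3, Subtype.ext ?_⟩
    show (R' ^ n) ^ (8 : ℕ) = 1
    rw [← zpow_natCast, ← _root_.zpow_mul, mul_comm, _root_.zpow_mul, zpow_natCast,
      show R' ^ 8 = 1 from Subtype.ext hR8, _root_.one_zpow]
  have hpw : IsPGroup 2 (Subgroup.zpowers w') := by
    rintro ⟨y, n, rfl⟩
    refine ⟨1, Subtype.ext ?_⟩
    show (w' ^ n) ^ (2 : ℕ) = 1
    rw [← zpow_natCast, ← _root_.zpow_mul, mul_comm, _root_.zpow_mul, zpow_natCast,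
      show w' ^ 2 = 1 by rw [pow_two]; exact Subtype.ext hww, _root_.one_zpow]
  have hnorm : Subgroup.zpowers w' ≤ Subgroup.normalizer (Subgroup.zpowers R' : Set M) := by
    have key : ∀ y ∈ Subgroup.zpowers R', w' * y * w'⁻¹ ∈ Subgroup.zpowers R' := by
      rintro y ⟨n, rfl⟩
      exact ⟨-n, by show R' ^ (-n) = _; rw [← conj_zpow, hwR', _root_.inv_zpow, _root_.zpow_neg]⟩
    rw [Subgroup.zpowers_le, Subgroup.mem_normalizer_iff]
    refine fun y => ⟨key y, fun h => ?_⟩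
    have := key _ h
    rw [hwi, show w' * (w' * y * w') * w' = (w' * w') * y * (w' * w') by simp only [mul_assoc],
      show w' * w' = 1 from Subtype.ext hww, one_mul, mul_one] at this
    exact this
  obtain ⟨S, hS⟩ := (hpR.to_sup_of_normal_left' hpw hnorm).exists_le_sylow
  have hRS : R' ∈ (S : Subgroup M) := hS (Subgroup.mem_sup_left (Subgroup.mem_zpowers _))
  have hwS : w' ∈ (S : Subgroup M) := hS (Subgroup.mem_sup_right (Subgroup.mem_zpowers _))
  haveI : Nontrivial (S : Subgroup M) :=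
    ⟨⟨⟨R', hRS⟩, 1, fun e => hα1 (smul_left_injective F (T'.n_ne i) (by
      show α • T'.n1 i = (1 : F) • T'.n1 i
      rw [← h1, show R = 1 from congrArg (fun z : (S : Subgroup M) => ((z : M) : GLn)) e]
      simp))⟩⟩
  haveI := S.2.center_nontrivial
  have hdvd : 2 ∣ Nat.card (Subgroup.center (S : Subgroup M)) := by
    obtain ⟨n, hn⟩ := IsPGroup.iff_card.1 (S.2.to_subgroup (Subgroup.center _))
    rw [hn]
    refine dvd_pow_self 2 fun h0 => ?_
    rw [h0, pow_zero] at hn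
    exact absurd hn Finite.one_lt_card.ne'
  obtain ⟨⟨zS, hzc⟩, hzo⟩ := exists_prime_orderOf_dvd_card' 2 hdvd
  rw [Subgroup.mem_center_iff] at hzc
  set z : GLn := ((zS : M) : GLn) with hz
  have hzM : z ∈ M := (zS : M).2
  have hcR : R * z = z * R := congrArg (fun y : (S : Subgroup M) => ((y : M) : GLn)) (hzc ⟨R', hRS⟩)
  have hcw : w * z = z * w := congrArg (fun y : (S : Subgroup M) => ((y : M) : GLn)) (hzc ⟨w', hwS⟩)
  have hz2 : z * z = 1 := by
    have := congrArg (fun y : Subgroup.center (S : Subgroup M) => (((y : (S : Subgroup M)) : M) : GLn))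
      (show (⟨zS, Subgroup.mem_center_iff.2 hzc⟩ : Subgroup.center (S : Subgroup M)) ^ 2 = 1 from orderOf_dvd_iff_pow_eq_one.1 hzo.dvd)
    simpa [pow_two] using this
  have hz1 : z ≠ 1 := fun e => by
    have : (⟨zS, Subgroup.mem_center_iff.2 hzc⟩ : Subgroup.center (S : Subgroup M)) = 1 :=
      Subtype.ext (Subtype.ext (Subtype.ext e))
    rw [this, orderOf_one] at hzo
    exact absurd hzo (by norm_num)
  have eig : ∀ {v : Vec} {c : F}, (R : Mat) *ᵥ v = c • v → (R : Mat) *ᵥ ((z : Mat) *ᵥ v) = c • ((z : Mat) *ᵥ v) :=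
    fun {v c} h => by rw [← Max.mulVec_mul_GL, hcR, Max.mulVec_mul_GL, h, mulVec_smul]
  obtain ⟨pa, ra, sa, ea, -, hra, hsa⟩ := T'.eigen_coord hi h1 h2 h3 (eig h1)
  rw [hra hαi, hsa hα1, zero_smul, zero_smul, add_zero, add_zero] at ea
  obtain ⟨pb, rb, sb, eb, hpb, -, hsb⟩ := T'.eigen_coord hi h1 h2 h3 (eig h2)
  rw [hpb hαi.symm, hsb (fun h => hα1 (inv_eq_one.1 h)), zero_smul, zero_smul, zero_add, add_zero] at eb
  obtain ⟨pc, rc, sc, ec, hpc, hrc, -⟩ := T'.eigen_coord hi h1 h2 h3 (eig (show (R : Mat) *ᵥ T'.u3 = (1 : F) • T'.u3 by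
    rw [h3, one_smul]))
  rw [hpc hα1.symm, hrc (fun h => hα1 (inv_eq_one.1 h.symm)), zero_smul, zero_smul, zero_add, zero_add] at ec
  have hab : rb = pa := by
    have := congrArg (fun g : GLn => (g : Mat) *ᵥ T'.n1 i) hcw
    simp only [Max.mulVec_mul_GL, ea, hwn, mulVec_smul, mulVec_neg, eb, smul_neg] at this
    exact (smul_left_injective F (T'.n_ne (-i)) (neg_injective this)).symm
  rw [hab] at eb
  have hpa : pa * pa = 1 := smul_left_injective F (T'.n_ne i) (by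
    show (pa * pa) • T'.n1 i = (1 : F) • T'.n1 i
    rw [one_smul]
    conv_rhs => rw [← one_mulVec (T'.n1 i), ← Units.val_one, ← hz2, Max.mulVec_mul_GL, ea, mulVec_smul, ea, smul_smul])
  have hsc : sc = 1 := by
    have hd := T'.det_diag hi ea eb ec
    rw [C.det hzM] at hd
    rw [hpa, one_mul] at hd
    exact hd.symm
  have hpa1 : pa = -1 := by
    refine (mul_self_eq_one_iff.1 hpa).resolve_left fun h => hz1 (C.ext_St (T := T') hi ?_ ?_ ?_) <;>
      rw [Units.val_one, one_mulVec]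
    · rw [ea, h, one_smul]
    · rw [eb, h, one_smul]
    · rw [ec, hsc, one_smul]
  -- transport into the exceptional stabiliser
  obtain ⟨h0, hh0M, -, hh1, hh2, hh3⟩ := C.hinv T
  set S1 : Sylow 2 (St T M) := default
  let h' : St T M := ⟨h0, hh0M, 1, by rw [hh3, one_smul]⟩
  have hcent : ∀ y : St T M, h' * y = y * h' := by
    rintro ⟨y, hy⟩
    obtain ⟨hyM, l, hl⟩ := id hy
    have hpl : ∀ v, H v T.u3 = 0 → (h0 : Mat) *ᵥ v = -v := fun v hv => by
      have hd := T.expand v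
      rw [hv, zero_div, zero_smul, add_zero] at hd
      rw [hd, mulVec_add, mulVec_smul, mulVec_smul, hh1, hh2, smul_neg, smul_neg, neg_add]
    refine Subtype.ext (T.ext_gl ?_ ?_ ?_) <;> show ((h0 * y : GLn) : Mat) *ᵥ _ = ((y * h0 : GLn) : Mat) *ᵥ _ <;>
      rw [Max.mulVec_mul_GL, Max.mulVec_mul_GL]
    · rw [hh1, mulVec_neg, hpl _ (C.axis_preserved' hyM hl T.H13)]
    · rw [hh2, mulVec_neg, hpl _ (C.axis_preserved' hyM hl T.H23)]
    · rw [hh3, hl, mulVec_smul, hh3]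
  have hhp : IsPGroup 2 (Subgroup.zpowers h') := by
    rintro ⟨y, n, rfl⟩
    refine ⟨1, Subtype.ext ?_⟩
    show (h' ^ n) ^ (2 : ℕ) = 1
    have hh : h' ^ 2 = 1 := Subtype.ext (T.ext_gl
      (by simp [h', pow_two, ← mulVec_mulVec, hh1, mulVec_neg])
      (by simp [h', pow_two, ← mulVec_mulVec, hh2, mulVec_neg])
      (by simp [h', pow_two, ← mulVec_mulVec, hh3]))
    rw [← zpow_natCast, ← _root_.zpow_mul, mul_comm, _root_.zpow_mul, zpow_natCast, hh, _root_.one_zpow]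
  have hhS1 : h' ∈ (S1 : Subgroup (St T M)) := by
    have hn : Subgroup.zpowers h' ≤ Subgroup.normalizer ((S1 : Subgroup (St T M)) : Set (St T M)) := by
      rw [Subgroup.zpowers_le, Subgroup.mem_normalizer_iff]
      intro y
      rw [hcent y, mul_inv_cancel_right]
    have := S1.3 (S1.2.to_sup_of_normal_left' hhp hn) le_sup_left
    exact this ▸ Subgroup.mem_sup_right (Subgroup.mem_zpowers _)
  let incl : St T M →* M := Subgroup.inclusion fun x hx => hx.1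
  obtain ⟨S', hS'⟩ := (S1.2.map incl).exists_le_sylow
  obtain ⟨g, hg⟩ := MulAction.exists_smul_eq M S S'
  set z' : M := g * (zS : M) * g⁻¹
  have hz'c : ∀ y : M, y ∈ (S' : Subgroup M) → z' * y = y * z' := by
    intro y hy
    rw [← hg] at hy
    obtain ⟨y0, hy0, rfl⟩ := hy
    have hc' : (y0 : M) * (zS : M) = (zS : M) * y0 :=
      congrArg Subtype.val (hzc ⟨y0, hy0⟩)
    show g * (zS : M) * g⁻¹ * (g * y0 * g⁻¹) = g * y0 * g⁻¹ * (g * (zS : M) * g⁻¹)
    simp only [mul_assoc, inv_mul_cancel_left]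
    rw [← mul_assoc (zS : M), ← hc', mul_assoc]
  have hz'h : (z' : GLn) * h0 = h0 * (z' : GLn) :=
    congrArg Subtype.val (hz'c _ (hS' ⟨h', hhS1, rfl⟩))
  have hz'3 : ∃ l : F, ((z' : GLn) : Mat) *ᵥ T.u3 = l • T.u3 := by
    set v := ((z' : GLn) : Mat) *ᵥ T.u3
    have hv : (h0 : Mat) *ᵥ v = v := by
      rw [← Max.mulVec_mul_GL, ← hz'h, Max.mulVec_mul_GL, hh3]
    refine ⟨H v T.u3 / T.d3, ?_⟩
    have hd := T.expand v
    have hhd := congrArg (fun y => (h0 : Mat) *ᵥ y) hd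
    simp only [hv, mulVec_add, mulVec_smul, hh1, hh2, hh3, smul_neg] at hhd
    have h2 := two_ne D
    refine hd.trans ?_
    have hsum : (2 : F) • ((H v T.u1 / T.d1) • T.u1 + (H v T.u2 / T.d2) • T.u2) = 0 := by
      linear_combination (norm := module) hhd - hd
    rw [(smul_eq_zero.1 hsum).resolve_left h2, zero_add]
  obtain ⟨l, hl⟩ := hz'3
  let zt : St T M := ⟨z', z'.2, l, hl⟩
  have hl3 := hsyl S1 zt fun s hs => Subtype.ext (by
    show (z' : GLn) * (s : GLn) = (s : GLn) * (z' : GLn)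
    exact congrArg Subtype.val (hz'c _ (hS' ⟨s, hs, rfl⟩)))
  rw [show axisVal T (zt : GLn) = l from axisVal_eq T hl] at hl3
  have hl2 : l * l = 1 := smul_left_injective F T.u3_ne (by
    show (l * l) • T.u3 = (1 : F) • T.u3
    have e : (z' : GLn) * (z' : GLn) = 1 := by
      show (g : GLn) * z * (g : GLn)⁻¹ * ((g : GLn) * z * (g : GLn)⁻¹) = 1
      simp only [mul_assoc, inv_mul_cancel_left]
      rw [← mul_assoc z, hz2, one_mul, mul_inv_cancel]
    rw [one_smul]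
    conv_rhs => rw [← one_mulVec T.u3, ← Units.val_one, ← e, Max.mulVec_mul_GL, hl, mulVec_smul, hl, smul_smul])
  have hl1 : l = 1 := by linear_combination hl3 - l * hl2
  rw [hl1, one_smul] at hl
  set v := (((g : GLn)⁻¹ : GLn) : Mat) *ᵥ T.u3
  have hzv : (z : Mat) *ᵥ v = v := by
    have := congrArg (fun y => (((g : GLn)⁻¹ : GLn) : Mat) *ᵥ y) hl
    rw [show (z' : GLn) = (g : GLn) * z * (g : GLn)⁻¹ from rfl] at this
    simpa only [Max.mulVec_mul_GL, Max.inv_mulVec_cancel, mul_assoc] using this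
  obtain ⟨a, b, hab'⟩ := T'.plane_expand hi (v := v - (H v T'.u3 / T'.d3) • T'.u3) (by
    rw [H_sub_left, H_smul_left, T'.H33, div_mul_cancel₀ _ T'.d3_ne, sub_self])
  have hv0 : v - (H v T'.u3 / T'.d3) • T'.u3 = 0 := by
    have h2 := two_ne D
    have := congrArg (fun y => (z : Mat) *ᵥ y) hab'
    simp only [mulVec_sub, mulVec_smul, hzv, ec, hsc, mulVec_add, ea, eb, hpa1, one_smul, neg_one_smul, smul_neg]
      at this
    refine (smul_eq_zero.1 (show (2 : F) • (v - (H v T'.u3 / T'.d3) • T'.u3) = 0 from ?_)).resolve_left h2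
    rw [two_smul]
    nth_rewrite 1 [this]
    rw [hab']
    abel
  exact C.nonconj hN hq (p := p) hs hs' (inv_mem g.2) (c := H v T'.u3 / T'.d3) (sub_eq_zero.1 hv0)

omit hq in
theorem rat_eigen {x : GLn} {k r : F} {a b : Idx → D.F₀} (ha : BF D a a ≠ 0)
    (hb : k • ((x : Mat) *ᵥ rv D a) = rv D b) (hr : (x : Mat) *ᵥ rv D a = r • rv D a) : k * r ∈ D.F₀ := by
  have h := congrArg (fun y => H y (rv D a)) hb
  simp only [hr, smul_smul, H_smul_left, hB] at h
  rw [show k * r = ((BF D b a : D.F₀) : F) / ((BF D a a : D.F₀) : F) by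
    rw [eq_div_iff fun e => ha (Subtype.ext e), h]]
  exact D.F₀.div_mem (BF D b a).2 (BF D a a).2

/-- stabilisers of non-split axes are rational -/
theorem Ov.nonsplit_rat {p : ℕ} [Fact p.Prime] [CharP F p] {T : Tri D} (hs : ¬ Split D T.f3)
    (h1s : Split D T.f1) : ∀ x ∈ St T M, x ∈ G0 D := by
  classical
  have hF := D.hF
  have h2 := two_ne D
  obtain ⟨i, α, R, hi, hR, -, hR1, hR2, hR3, hα, hii, ⟨h, -⟩ | ⟨-, hiq, ho⟩⟩ := C.exists_rot T
  · exact absurd h hs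
  have ho' : orderOf α = q + 1 := ho.resolve_right (by omega)
  have hα4 : α ^ 4 ≠ 1 := fun h => by
    have := Nat.le_of_dvd (by norm_num) (ho' ▸ orderOf_dvd_of_pow_eq_one h)
    omega
  have hk : ∀ x ∈ St T M, PS T x → axisVal T x ^ 3 = 1 := by
    intro x hx hps
    obtain ⟨r, hr1, hr2⟩ := hps
    set l := axisVal T x
    have hl : (x : Mat) *ᵥ T.u3 = l • T.u3 := axisVal_spec hx
    obtain ⟨k, hk0, hkr⟩ := (mem_G0 D x).1
      (C.split_rat hN hq (p := p) (T := T.rot3) h1s x ⟨hx.1, r, by rw [T.rot3_u3]; exact hr1⟩)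
    obtain ⟨b1, hb1⟩ := hkr T.f1
    obtain ⟨b3, hb3⟩ := hkr T.f3
    have hkr' := (fix_iff D _).1 (rat_eigen C hN T.a1 hb1 hr1)
    have hkl' := (fix_iff D _).1 (rat_eigen C hN T.a3 hb3 hl)
    have e1 : r * r ^ q = 1 := by
      have h := C.map_H hx.1 T.u1 T.u1
      rw [hr1, H_smul_left, H_smul_right, T.H11] at h
      exact mul_right_cancel₀ T.d1_ne (by linear_combination h)
    have e3 : l * l ^ q = 1 := by
      have h := C.map_H hx.1 T.u3 T.u3
      rw [hl, H_smul_left, H_smul_right, T.H33] at h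
      exact mul_right_cancel₀ T.d3_ne (by linear_combination h)
    have hsq : r * r = l * l := by
      refine mul_left_cancel₀ (mul_ne_zero hk0 hk0) ?_
      calc k * k * (r * r) = (k * r) * (k * r) ^ q := by rw [hkr']; ring
        _ = k * k ^ q * (r * r ^ q) := by ring
        _ = k * k ^ q * (l * l ^ q) := by rw [e1, e3]
        _ = (k * l) * (k * l) ^ q := by ring
        _ = k * k * (l * l) := by rw [hkl']; ring
    obtain ⟨r', hr'⟩ := (show PS T x from ⟨r, hr1, hr2⟩).n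
    have hrr : r' = r := by
      have h := congrArg (fun y => H y T.u1) (hr' i)
      simp only [Tri.n1, mulVec_add, mulVec_smul, hr1, hr2, H_smul_left, H_add_left, T.H11, T.H21, mul_zero,
        add_zero] at h
      exact (mul_right_cancel₀ T.d1_ne h).symm
    have hdet := T.det_diag hi (hr' i) (hr' (-i)) hl
    rw [C.det hx.1, hrr, hsq] at hdet
    linear_combination -hdet
  rcases C.plane_cases hN (p := p) T hi hα4 hR hR1 hR2 hR3 hk with hm | ⟨h6, -⟩
  swap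
  · intro x _
    exfalso
    have := Nat.le_of_dvd (by norm_num) (ho' ▸ orderOf_dvd_of_pow_eq_one h6)
    omega
  intro x hx
  obtain ⟨a, b, j, hj, ha, hb⟩ : ∃ a b j, (j = i ∨ j = -i) ∧ (x : Mat) *ᵥ T.n1 i = a • T.n1 j ∧
      (x : Mat) *ᵥ T.n1 (-i) = b • T.n1 (-j) := by
    obtain ⟨a, b, ⟨h1, h2⟩ | ⟨h1, h2⟩⟩ := hm x hx
    · exact ⟨a, b, i, Or.inl rfl, h1, h2⟩
    · exact ⟨a, b, -i, Or.inr rfl, h1, by rw [neg_neg]; exact h2⟩
  have hjq : j ^ q = -j := by
    rcases hj with rfl | rfl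
    · exact hiq
    · rw [← HermStd.qHom_apply hF, map_neg, HermStd.qHom_apply, hiq]
  have hjj : j * j * T.d2 = -T.d1 := by
    rcases hj with rfl | rfl <;> linear_combination hii
  have hHn : ∀ e : F, e ^ q = -e → e * e * T.d2 = -T.d1 → H (T.n1 e) (T.n1 e) = 2 * T.d1 := fun e he1 he2 => by
    simp only [Tri.n1, H_add_left, H_add_right hF, H_smul_left, H_smul_right, T.H11, T.H22, T.H12, T.H21, he1,
      mul_zero, add_zero, zero_add]
    linear_combination -he2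
  have hnq : ∀ e : F, e ^ q = -e → (-e) ^ q = -(-e) := fun e he => by
    rw [← HermStd.qHom_apply hF, map_neg, HermStd.qHom_apply, he]
  have hnorm : ∀ c e e' : F, e ^ q = -e → e * e * T.d2 = -T.d1 → e' ^ q = -e' → e' * e' * T.d2 = -T.d1 →
      (x : Mat) *ᵥ T.n1 e = c • T.n1 e' → c * c ^ q = 1 := fun c e e' h1 h2' h3 h4 h => by
    have := C.map_H hx.1 (T.n1 e) (T.n1 e)
    rw [h, H_smul_left, H_smul_right, hHn e' h3 h4, hHn e h1 h2'] at this
    exact mul_right_cancel₀ (mul_ne_zero h2 T.d1_ne) (by linear_combination this)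
  have ha1 := hnorm a i j hiq hii hjq hjj ha
  have hb1 := hnorm b (-i) (-j) (hnq i hiq) (by linear_combination hii) (hnq j hjq) (by linear_combination hjj) hb
  have ha0 : a ≠ 0 := fun h => by rw [h, zero_mul] at ha1; exact zero_ne_one ha1
  have hb0 : b ≠ 0 := fun h => by rw [h, zero_mul] at hb1; exact zero_ne_one hb1
  obtain ⟨k, hk0, hkq⟩ : ∃ k : F, k ≠ 0 ∧ k ^ q = b / a * k := by
    by_cases hc : b / a = -1
    · exact ⟨th D, th_ne D, by rw [th_q, hc, neg_one_mul]⟩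
    refine ⟨1 + a / b, fun h => hc ?_, ?_⟩
    · rw [← inv_div a b, show a / b = -1 from (neg_eq_of_add_eq_zero_right h).symm, inv_neg, inv_one]
    · have haq : a ^ q = a⁻¹ := eq_inv_of_mul_eq_one_right ha1
      have hbq : b ^ q = b⁻¹ := eq_inv_of_mul_eq_one_right hb1
      rw [← HermStd.qHom_apply hF, map_add, map_one, map_div₀, HermStd.qHom_apply, HermStd.qHom_apply, haq, hbq]
      field_simp
      ring
  have hr1 : k + k ^ q ∈ D.F₀ := by
    rw [fix_iff, ← HermStd.qHom_apply hF, map_add, HermStd.qHom_apply, HermStd.qHom_apply, pow_qq hF, add_comm]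
  have hr2 : j * (k - k ^ q) ∈ D.F₀ := by
    rw [fix_iff, ← HermStd.qHom_apply hF, map_mul, map_sub, HermStd.qHom_apply, HermStd.qHom_apply,
      HermStd.qHom_apply, pow_qq hF, hjq]
    ring
  set v := (⟨_, hr1⟩ : D.F₀) • T.f1 + (⟨_, hr2⟩ : D.F₀) • T.f2 with hv
  have hxv : (x : Mat) *ᵥ T.u1 = (a / (2 * k)) • rv D v := by
    refine smul_right_injective Vec h2 ?_
    show (2 : F) • _ = (2 : F) • _
    rw [← mulVec_smul, show (2 : F) • T.u1 = T.n1 i + T.n1 (-i) by rw [Tri.n1, Tri.n1]; module, mulVec_add, ha, hb,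
      hv, rv_add, rv_smul, rv_smul, show rv D T.f1 = T.u1 from rfl, show rv D T.f2 = T.u2 from rfl, Tri.n1, Tri.n1]
    simp only [hkq]
    match_scalars <;> field_simp <;> ring
  set s := a / (2 * k) with hsdef
  have hvv : BF D v v ≠ 0 := fun h0 => T.d1_ne (by
    rw [← T.H11, ← C.map_H hx.1, hxv, H_smul_left, H_smul_right, hB, h0]
    simp)
  obtain ⟨Tv, hTv⟩ := exists_tri hvv
  have hsv : Split D v := by
    by_contra hns
    refine C.nonconj hN hq (p := p) (T := T.rot3) (T' := Tv) h1s (hTv ▸ hns) hx.1 (c := s) ?_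
    rw [T.rot3_u3, hxv, Tri.u3, hTv]
  obtain ⟨y1, hy1⟩ := h1s
  obtain ⟨y2, hy2⟩ := hsv
  have hd := disc_ne D
  have hy20 : y2 ≠ 0 := fun h => mul_ne_zero hd hvv (by rw [hy2, h, mul_zero])
  have hy10 : y1 ≠ 0 := fun h => mul_ne_zero hd T.a1 (by rw [hy1, h, mul_zero])
  set t := y1 / y2 with ht
  have hval : BF D T.f1 T.f1 = BF D (t • v) (t • v) := by
    refine mul_left_cancel₀ hd ?_
    simp only [map_smul, LinearMap.smul_apply, smul_eq_mul, ht]
    rw [hy1]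
    field_simp
    linear_combination -hy2
  obtain ⟨g, hg, hg0, ε, hε, hgu⟩ := C.move hval T.a1
  have htF : (t : F) ≠ 0 := fun h => div_ne_zero hy10 hy20 (Subtype.ext h)
  have h0 : g⁻¹ * x ∈ G0 D := by
    refine C.split_rat hN hq (p := p) (T := T.rot3) ⟨y1, hy1⟩ _ ⟨mul_mem (inv_mem hg) hx.1, s / (ε * t), ?_⟩
    rw [T.rot3_u3, Max.mulVec_mul_GL, hxv]
    refine mulVec_inv_eq ?_
    rw [mulVec_smul, show T.u1 = rv D T.f1 from rfl, hgu, rv_smul, smul_smul, smul_smul]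
    congr 1
    field_simp
  have := mul_mem hg0 h0
  rwa [mul_inv_cancel_left] at this

/-- stabilisers of rational anisotropic axes are rational -/
theorem Ov.axis_rat {p : ℕ} [Fact p.Prime] [CharP F p] {v : Idx → D.F₀} (hv : BF D v v ≠ 0) {x : GLn}
    (hx : x ∈ M) {l : F} (hl : (x : Mat) *ᵥ rv D v = l • rv D v) : x ∈ G0 D := by
  by_cases hs : Split D v
  · obtain ⟨T, rfl⟩ := exists_tri hv
    exact C.split_rat hN hq (p := p) hs x ⟨hx, l, hl⟩
  · obtain ⟨T, rfl, h1⟩ := exists_tri_value hv (inv_ne_zero (disc_ne D))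
    refine C.nonsplit_rat hN hq (p := p) hs ?_ x ⟨hx, l, hl⟩
    rw [Split, h1, mul_inv_cancel₀ (disc_ne D)]
    exact IsSquare.one

end Cfsg.Agent.Forms.Max.SU3.Orth
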