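import Mathlib
import Cfsg.Agent.Lib.Forms.Max.SU3.Orth.Base
import Cfsg.Agent.Lib.Forms.Max.SU3.Line
import Cfsg.Agent.Lib.Forms.Max.SU3.Subspace

/-!
# An overgroup with a transvection at a rational point is the whole group
-/

set_option autoImplicit false
set_option linter.unusedSectionVars false

namespace Cfsg.Agent.Forms.Max.SU3.Orth

open Matrix Cfsg.Agent.Classical.Unitary
open SubfieldUnitary (InM inM_of inM_map inM_add inM_neg inM_smul inM_coeff_zero exists_tvM)
open SU4.Orth (Data rv rv_add rv_smul rv_sub rv_neg rv_zero rv_eq_zero fix_iff pow_q_coe th th_ne th_q th_not_mem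
  hrat hB refl' hH0 dual rf rf_rv rf_perp two_ne two_ne')

variable {F : Type*} [Field F] [Fintype F] {q : ℕ}

local notation "Idx" => (Fin 3)
local notation "Vec" => (Fin 3 → F)
local notation "GLn" => GL (Fin 3) F
local notation "H" => Cfsg.hermForm 3 F q
local notation "SUn" => (Cfsg.GU 3 F q ⊓ Cfsg.Geo.specialLinear (Fin 3) F)
local notation "BF" => SU4.Orth.B

variable {D : Data F q 3}

/-- a frame whose first eigenvector is a given singular vector -/
theorem exists_tri_sing {a : Idx → D.F₀} (ha : a ≠ 0) (haa : BF D a a = 0) :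
    ∃ T : Tri D, T.n1 1 = (2 : F) • rv D a ∧ T.d2 = -T.d1 := by
  have h2 := two_ne' D
  obtain ⟨e, -, he⟩ := dual D a ⊥ (by simpa using ha)
  set b := e + (-(BF D e e) / 2) • a with hb
  have hab : BF D a b = 1 := by rw [hb, map_add, map_smul, he, haa, smul_zero, add_zero]
  have hbb : BF D b b = 0 := by
    simp only [hb, map_add, map_smul, LinearMap.add_apply, LinearMap.smul_apply, haa, SU4.Orth.swap D a e, he, smul_eq_mul]
    field_simp
    ring
  have hba : BF D b a = 1 := by rw [SU4.Orth.swap, hab]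
  have h1 : BF D (a + b) (a + b) = 2 := by
    simp [haa, hbb, hab, hba]; ring
  obtain ⟨T, hT⟩ := exists_tri (D := D) (v := a + b) (by rw [h1]; exact h2)
  have h11 : BF D (a - b) (a - b) = -2 := by
    simp [haa, hbb, hab, hba]; ring
  obtain ⟨r, hr0, hr⟩ := SU4.Orth.exists_perp D ![a + b, a - b] (by norm_num)
  have r1 : BF D (a + b) r = 0 := hr 0
  have r2 : BF D (a - b) r = 0 := hr 1
  have har : BF D a r = 0 := by
    have : 2 * BF D a r = 0 := by
      simp only [map_add, map_sub, LinearMap.add_apply, LinearMap.sub_apply] at r1 r2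
      linear_combination r1 + r2
    exact (mul_eq_zero.1 this).resolve_left h2
  have hbr : BF D b r = 0 := by simpa [har] using r1
  have hrr : BF D r r ≠ 0 := by
    intro hrr
    obtain ⟨z, hz, hrz⟩ := dual D r (Submodule.span D.F₀ ({a, b} : Set (Idx → D.F₀))) fun hm => by
      obtain ⟨s, t, rfl⟩ := Submodule.mem_span_pair.1 hm
      simp [haa, hab] at har
      simp [hbb, hba] at hbr
      simp [har, hbr] at hr0
    have hli : LinearIndependent D.F₀ ![a, b, r, z] := by
      rw [Fintype.linearIndependent_iff]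
      intro c hc
      simp only [Fin.sum_univ_four, Matrix.cons_val_zero, Matrix.cons_val_one, Matrix.cons_val] at hc
      have k1 := congrArg (BF D a) hc
      have k2 := congrArg (BF D b) hc
      have k3 := congrArg (BF D r) hc
      simp [haa, hab, hba, hbb, har, hbr, hrr, hrz, hz a (Submodule.subset_span (by simp)),
        hz b (Submodule.subset_span (by simp)), refl' D _ _ har, refl' D _ _ hbr] at k1 k2 k3
      rw [k1, k2, k3, zero_smul, zero_smul, zero_smul, zero_add, zero_add, add_zero] at hc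
      intro i
      fin_cases i
      · exact k2
      · exact k1
      · exact (smul_eq_zero.1 hc).resolve_right hr0
      · exact k3
    have := hli.fintype_card_le_finrank
    rw [Module.finrank_fintype_fun_eq_card, Fintype.card_fin, Fintype.card_fin] at this
    omega
  refine ⟨⟨a + b, a - b, r, by rw [h1]; exact h2, by rw [h11]; exact neg_ne_zero.2 h2, hrr,
    by simp [haa, hbb, hab, hba], by simpa using r1, by simpa using r2⟩, ?_, ?_⟩
  · simp only [Tri.n1, Tri.u1, Tri.u2, one_smul, rv_add, rv_sub]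
    module
  · simp only [Tri.d1, Tri.d2]
    rw [h1, h11]
    push_cast
    rfl

variable {M : Subgroup (GL (Fin 3) F)} (C : Ov D M)
include C

theorem Ov.top_of_root (hq : 3 ≤ q) {a₀ : Idx → D.F₀} (ha₀ : a₀ ≠ 0) (ha₀₀ : BF D a₀ a₀ = 0) {c₀ : F}
    (hc₀ : c₀ + c₀ ^ q = 0) (hc₀0 : c₀ ≠ 0) (h : InM q M (rv D a₀) c₀) : SUn ≤ M := by
  have hF := D.hF
  have h2 := two_ne D
  have h2q : (2 : F) ^ q = 2 := by rw [← HermStd.qHom_apply hF, map_ofNat]
  obtain ⟨T, hTn, hTd⟩ := exists_tri_sing ha₀ ha₀₀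
  set n := T.n1 1 with hn
  set n' := T.n1 (-1) with hn'
  have hii : (1 : F) * 1 * T.d2 = -T.d1 := by rw [one_mul, one_mul, hTd]
  have hnn : H n n = 0 := by
    rw [hn, Tri.n1]
    simp [H_add_left, H_add_right hF, H_smul_left, H_smul_right, T.H11, T.H22, T.H12, T.H21, hTd]
  have hnn' : H n n' ≠ 0 := by
    rw [hn, hn', Tri.n1, Tri.n1]
    simp [H_add_left, H_add_right hF, H_smul_left, H_smul_right, H_neg_right hF, T.H11, T.H22, T.H12, T.H21, hTd]
    intro e
    exact T.d1_ne ((mul_eq_zero.1 (show (2 : F) * T.d1 = 0 by linear_combination e)).resolve_left h2)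
  set c := c₀ / 4 with hc
  have h4 : (4 : F) ≠ 0 := by rw [show (4 : F) = 2 * 2 by norm_num]; exact mul_ne_zero h2 h2
  have h4q : (4 : F) ^ q = 4 := by rw [← HermStd.qHom_apply hF, map_ofNat]
  have hcs : c + c ^ q = 0 := by rw [hc, div_pow, h4q, ← add_div, hc₀, zero_div]
  have hc0 : c ≠ 0 := div_ne_zero hc₀0 h4
  have hn0 : InM q M n c := by
    rw [hTn]
    refine inM_smul hF 2 ?_
    rw [h2q, hc, show (2 : F) * 2 = 4 by norm_num, div_mul_cancel₀ _ h4]
    exact h
  -- the admissible coefficients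
  let K : F → Prop := fun k => k ^ q = k ∧ InM q M n (k * c)
  have hskew : ∀ k, k ^ q = k → k * c + (k * c) ^ q = 0 := fun k hk => by
    rw [mul_pow, hk, ← mul_add, hcs, mul_zero]
  have hsq : ∀ m : F, m ∈ D.F₀ → K (m * m) := by
    intro m hm
    have hmq := (fix_iff D m).1 hm
    refine ⟨by rw [mul_pow, hmq], ?_⟩
    rcases eq_or_ne m 0 with rfl | hm0
    · simp only [zero_mul]; exact inM_coeff_zero
    rcases eq_or_ne m (-1) with rfl | hm1
    · simpa using hn0
    obtain ⟨g, hg, -, hgn, -, -⟩ := C.rot T one_ne_zero hii hm0 hm1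
      (D.F₀.div_mem (add_mem hm (inv_mem hm)) ((fix_iff D 2).2 h2q))
      (D.F₀.div_mem (mul_mem (one_mem _) (sub_mem hm (inv_mem hm))) ((fix_iff D 2).2 h2q))
    have h1 := inM_map hF C.hMK hg hnn hcs hn0
    rw [← hn] at hgn
    rw [hgn] at h1
    intro s hs
    refine h1 s fun x => ?_
    rw [hs, H_smul_right, hmq, smul_smul]
    congr 2
    ring
  have hadd : ∀ l l', K l → K l' → K (l + l') := fun l l' hl hl' =>
    ⟨by rw [← HermStd.qHom_apply hF, map_add, HermStd.qHom_apply, HermStd.qHom_apply, hl.1, hl'.1], by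
      rw [add_mul]; exact inM_add hF hnn (hskew l hl.1) (hskew l' hl'.1) hl.2 hl'.2⟩
  have hneg : ∀ l, K l → K (-l) := fun l hl =>
    ⟨by rw [← HermStd.qHom_apply hF, map_neg, HermStd.qHom_apply, hl.1],
      by rw [neg_mul]; exact inM_neg hF hnn (hskew l hl.1) hl.2⟩
  have hall : n ∈ Unitary.centres q M := by
    refine ⟨hnn, fun s d hd hs => ?_⟩
    set m := d / c / 2 with hm
    have hm0 : m ∈ D.F₀ := D.F₀.div_mem (by
      rw [fix_iff, div_pow, eq_neg_of_add_eq_zero_right hd, eq_neg_of_add_eq_zero_right hcs, neg_div_neg_eq])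
      ((fix_iff D 2).2 h2q)
    have hK := hadd _ _ (hadd _ _ (hsq (m + 1) (add_mem hm0 (one_mem _))) (hneg _ (hsq m hm0)))
      (hneg _ (hsq 1 (one_mem _)))
    have e : ((m + 1) * (m + 1) + -(m * m) + -(1 * 1)) * c = d := by rw [hm]; field_simp; ring
    exact (e ▸ hK.2) s hs
  have hall' : n' ∈ Unitary.centres q M := by
    obtain ⟨g, hg, -, hgn, -⟩ := C.rev T
    have h1 := Unitary.centres_map hF C.hMK hg hall
    rw [hn, hgn] at h1
    have := Unitary.centres_smul hF (-1 : F) h1
    rwa [neg_one_smul, neg_neg] at this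
  -- the whole line
  have hline : ∀ v, H v T.u3 = 0 → H v v = 0 → v ∈ Unitary.centres q M := by
    intro v hv hvv
    have hd1 := T.d1_ne
    have e : v = ((H v T.u1 / T.d1 + H v T.u2 / T.d2) / 2) • n +
        ((H v T.u1 / T.d1 - H v T.u2 / T.d2) / 2) • n' := by
      conv_lhs => rw [T.expand v, hv, zero_div, zero_smul, add_zero]
      rw [hn, hn', Tri.n1, Tri.n1]
      match_scalars <;> field_simp <;> ring
    rw [e] at hvv ⊢
    exact centres_line hF C.hMK hall hall' hnn' hvv
  -- an element moving the axis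
  have hsing : BF D (T.f1 + T.f2) (T.f1 + T.f2) = 0 := by
    refine Subtype.ext ?_
    rw [← hB, rv_add]
    simpa [hn, Tri.n1, Tri.u1, Tri.u2] using hnn
  obtain ⟨-, g, hg, hgx⟩ := C.ctx.sg (a := T.f1 + T.f2) (w := T.f3) hsing (by
    simp [T.p31, T.p32])
  refine Subspace.sl_le_of_line hF rfl hq C.hMK (w := T.u3) (by rw [T.H33]; exact T.d3_ne) hline hg fun hmem => ?_
  obtain ⟨t, ht⟩ := Submodule.mem_span_singleton.1 hmem
  rw [hgx, show rv D (T.f1 + T.f2) = n by rw [hn, Tri.n1, one_smul, rv_add]; rfl, show rv D T.f3 = T.u3 from rfl,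
    show H T.u3 n = 0 by rw [hn, Tri.n1, one_smul, H_add_right hF, T.H31, T.H32, add_zero], T.H33, zero_smul,
    add_zero, mul_zero, add_zero] at ht
  have h5 := congrArg (fun v => H v n') ht
  simp only [H_add_left, H_smul_left, show H T.u3 n' = 0 by
    rw [hn', Tri.n1, H_add_right hF, H_smul_right, T.H31, T.H32, mul_zero, add_zero], mul_zero, zero_add] at h5
  exact mul_ne_zero (neg_ne_zero.2 T.d3_ne) hnn' h5.symm

end Cfsg.Agent.Forms.Max.SU3.Orth
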